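/-
Homomorphisms between special linear groups given by relabelling indices.
-/
import Cfsg.Agent.Lib.Chev.CT.SingleBond.Chain

set_option autoImplicit false
set_option linter.unusedSectionVars false

namespace CfsgLib.Presentations.OmegaPlus

open Matrix CfsgLib.Chev.CT.SB

universe u

variable {F : Type u} [Field F] [Finite F] {k n : ℕ}

/-- The relabelling of indices along an injection. -/
theorem exists_relab (hk : 3 ≤ k) (f : Fin k → Fin n) (hf : Function.Injective f) :
    ∃ r : SpecialLinearGroup (Fin k) F →* SpecialLinearGroup (Fin n) F,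
      ∀ i j, i ≠ j → ∀ t, r (Tr i j t) = Tr (f i) (f j) t :=
  exists_hom_of_stComm hk (fun i j t => Tr (f i) (f j) t)
    { add := fun i j t u h => (Tr_add (hf.ne h) t u).symm
      comm0 := fun _ _ _ _ hij hkl hil hjk t u =>
        Tr_comm0 (hf.ne hij) (hf.ne hkl) (hf.ne hil) (hf.ne hjk) t u
      comm1 := fun _ _ _ hij hjk hik t u => Tr_comm1 (hf.ne hij) (hf.ne hjk) (hf.ne hik) t u }

/-- The relabelling of indices. -/
noncomputable def relab (hk : 3 ≤ k) (f : Fin k → Fin n) (hf : Function.Injective f) :
    SpecialLinearGroup (Fin k) F →* SpecialLinearGroup (Fin n) F :=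
  (exists_relab hk f hf).choose

theorem relab_Tr (hk : 3 ≤ k) {f : Fin k → Fin n} (hf : Function.Injective f) {i j : Fin k}
    (h : i ≠ j) (t : F) : relab hk f hf (Tr i j t) = Tr (f i) (f j) t :=
  (exists_relab (F := F) hk f hf).choose_spec i j h t

theorem hom_ext_Tr {G : Type*} [Group G] {f g : SpecialLinearGroup (Fin n) F →* G}
    (h : ∀ i j, i ≠ j → ∀ t, f (Tr i j t) = g (Tr i j t)) : f = g := by
  refine MonoidHom.ext fun A => ?_
  have ht : f.eqLocus g = ⊤ := CfsgLib.Classical.SL_le_of_transvections _ fun i j hij c => by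
    rw [← Tr_eq hij c]; exact h i j hij c
  exact (ht ▸ Subgroup.mem_top A : A ∈ f.eqLocus g)

end CfsgLib.Presentations.OmegaPlus
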