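/-
A homomorphism of SL and one further element with a few local rules give a pairing.
-/
import Cfsg.Agent.Lib.Chev.CT.SingleBond.OrthPairing
import Cfsg.Agent.Lib.Presentations.OmegaPlus.Relabel

set_option autoImplicit false
set_option linter.unusedSectionVars false

namespace CfsgLib.Presentations.OmegaPlus

open Matrix CfsgLib.Chev.CT.SB CfsgLib.Chev.CT.SB.Orth

universe u v

variable {F : Type u} [Field F] [Finite F] {m : ℕ} {Γ : Type v} [Group Γ]

/-- Indices of the same side of the branch: both among the first two, or both beyond. -/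
def Apart (i j : Fin (m + 4)) : Prop := (i.1 < 2 ∧ j.1 < 2) ∨ (2 ≤ i.1 ∧ 2 ≤ j.1)

/-- The local rules for the element carrying the first root to the branch root. -/
structure Rules (α : SpecialLinearGroup (Fin (m + 4)) F →* Γ) (w : Γ) : Prop where
  fix12 : ∀ t, Commute w (α (Tr 1 2 t)) ∧ Commute w (α (Tr 2 1 t))
  far : ∀ i j : Fin (m + 4), i ≠ j → Apart i j → ∀ t u,
    Commute (w * α (Tr 1 0 t) * w⁻¹) (α (Tr i j u)) ∧ Commute (w * α (Tr 0 1 t) * w⁻¹) (α (Tr i j u))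

theorem rev_succ (i : Fin (m + 3)) : ((Fin.rev i).succ : Fin (m + 4)).1 = m + 3 - i.1 := by
  have := i.isLt
  simp only [Fin.val_succ, Fin.val_rev]
  omega

/-- The other homomorphism of SL. -/
theorem exists_pairing {α : SpecialLinearGroup (Fin (m + 4)) F →* Γ} {w : Γ} (R : Rules α w) :
    ∃ P : SpecialLinearGroup (Fin (m + 4)) F →* Γ, Pairing P α ∧
      (∀ t, P (Tr 1 0 t) = w * α (Tr 1 0 t) * w⁻¹) ∧ ∀ t, P (Tr 0 1 t) = w * α (Tr 0 1 t) * w⁻¹ := by
  classical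
  let f3 : Fin 3 → Fin (m + 4) := fun i => ⟨2 - i.1, by omega⟩
  have hf3 : Function.Injective f3 := fun a b h => by
    simp only [f3, Fin.ext_iff] at h; ext; omega
  let r3 : SpecialLinearGroup (Fin 3) F →* SpecialLinearGroup (Fin (m + 4)) F := relab le_rfl f3 hf3
  let g : Fin (m + 3) → Fin (m + 4) := fun i => (Fin.rev i).succ
  have hg : Function.Injective g := (Fin.succ_injective _).comp Fin.rev_injective
  let Φ : SpecialLinearGroup (Fin (m + 3)) F →* Γ := α.comp (relab (by omega) g hg)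
  let β : SpecialLinearGroup (Fin 3) F →* Γ := (MulAut.conj w).toMonoidHom.comp (α.comp r3)
  let p : Fin (m + 2 + 1) := ⟨m + 1, by omega⟩
  have hΦ : ∀ i j, i ≠ j → ∀ t, Φ (Tr i j t) = α (Tr (g i) (g j) t) := fun i j h t => by
    simp only [Φ, MonoidHom.comp_apply, relab_Tr (by omega : 3 ≤ m + 3) hg h]
  have hβ : ∀ i j, i ≠ j → ∀ t, β (Tr i j t) = w * α (Tr (f3 i) (f3 j) t) * w⁻¹ := fun i j h t => by
    simp only [β, r3, MonoidHom.comp_apply, relab_Tr le_rfl hf3 h, MulEquiv.coe_toMonoidHom,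
      MulAut.conj_apply]
  have f0 : f3 0 = 2 := Fin.ext (by rw [val_two]; rfl)
  have f1 : f3 1 = 1 := Fin.ext (by simp [f3])
  have f2 : f3 2 = 0 := Fin.ext (by simp [f3])
  have gl : g (Fin.last (m + 2)) = 1 := Fin.ext (by rw [rev_succ]; simp)
  have gp : g p = 2 := Fin.ext (by rw [rev_succ, val_two]; simp [p])
  have hpl : p ≠ Fin.last (m + 2) := Fin.ne_of_val_ne (by simp [p])
  have cfix : ∀ {x : Γ}, Commute w x → w * x * w⁻¹ = x := fun h => by
    rw [h.eq, mul_inv_cancel_right]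
  have hE : Ext Φ p β := by
    refine ⟨rfl, by omega, fun t => ?_, fun t => ?_, fun k l h1 h2 t u => ?_⟩
    · rw [hβ 0 1 (by decide), f0, f1, hΦ _ _ hpl, gl, gp, cfix (R.fix12 t).2]
    · rw [hβ 1 0 (by decide), f0, f1, hΦ _ _ hpl.symm, gl, gp, cfix (R.fix12 t).1]
    · have hkl : k ≠ l := Fin.ne_of_val_ne (by omega)
      have hap : ∀ i : Fin (m + 3), i.1 < m + 2 → 2 ≤ (g i).1 := fun i hi => by
        rw [rev_succ]; omega
      rw [hβ 1 2 (by decide), f1, f2, hΦ k l hkl, hΦ l k hkl.symm]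
      exact ⟨(R.far _ _ (hg.ne hkl) (Or.inr ⟨hap k (by omega), hap l h2⟩) u t).1.symm,
        (R.far _ _ (hg.ne hkl.symm) (Or.inr ⟨hap l h2, hap k (by omega)⟩) u t).1.symm⟩
  have hE' := hE.dual fun k l h1 h2 t u => by
    have hkl : k ≠ l := Fin.ne_of_val_ne (by omega)
    have hap : ∀ i : Fin (m + 3), i.1 < m + 2 → 2 ≤ (g i).1 := fun i hi => by
      rw [rev_succ]; omega
    rw [hβ 2 1 (by decide), f1, f2, hΦ k l hkl, hΦ l k hkl.symm]
    exact ⟨(R.far _ _ (hg.ne hkl) (Or.inr ⟨hap k (by omega), hap l h2⟩) u t).2.symm,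
      (R.far _ _ (hg.ne hkl.symm) (Or.inr ⟨hap l h2, hap k (by omega)⟩) u t).2.symm⟩
  obtain ⟨Ψ, h1, h2, h3⟩ := extend hE hE'
  let P : SpecialLinearGroup (Fin (m + 4)) F →* Γ :=
    Ψ.comp (relab (by omega) Fin.rev Fin.rev_injective)
  have hP : ∀ i j : Fin (m + 4), i ≠ j → ∀ t, P (Tr i j t) = Ψ (Tr i.rev j.rev t) := fun i j h t => by
    simp only [P, MonoidHom.comp_apply, relab_Tr (by omega : 3 ≤ m + 4) Fin.rev_injective h]
  have r1 : Fin.rev (1 : Fin (m + 4)) = (Fin.last (m + 2)).castSucc := Fin.ext (by simp)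
  have r0 : Fin.rev (0 : Fin (m + 4)) = Fin.last (m + 3) := by simp
  have hP10 : ∀ t, P (Tr 1 0 t) = w * α (Tr 1 0 t) * w⁻¹ := fun t => by
    rw [hP _ _ one_ne_zero4, r1, r0]
    exact (h2 t).trans (by rw [hβ 1 2 (by decide), f1, f2])
  have hP01 : ∀ t, P (Tr 0 1 t) = w * α (Tr 0 1 t) * w⁻¹ := fun t => by
    rw [hP _ _ one_ne_zero4.symm, r1, r0]
    exact (h3 t).trans (by rw [hβ 2 1 (by decide), f1, f2])
  have hcommon : P.comp (emb F (m + 3)) = α.comp (emb F (m + 3)) := by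
    refine hom_ext_Tr fun a b hab t => ?_
    simp only [MonoidHom.comp_apply, emb_Tr hab]
    rw [hP _ _ (fun e => hab (Fin.succ_injective _ e)), Fin.rev_succ, Fin.rev_succ,
      h1 _ _ (fun e => hab (Fin.rev_injective e)), hΦ _ _ (fun e => hab (Fin.rev_injective e))]
    simp [g]
  have hc : ∀ A, P (emb F (m + 3) A) = α (emb F (m + 3) A) := fun A => DFunLike.congr_fun hcommon A
  refine ⟨P, ⟨hc, fun i hi t u => ?_⟩, hP10, hP01⟩
  obtain ⟨k, g1, g0, gi⟩ := exists_pair (F := F) hi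
  obtain ⟨A, hA⟩ := emb_of_fix k g0 (by rw [gi]; exact g0)
  have e10 : ∀ s : F, k * Tr 1 0 s * k⁻¹ = Tr i 0 s := fun s => by
    rw [Tr_conj k one_ne_zero4 hi g1 (y := 1) (by rw [gi]; exact g0), one_mul, one_mul]
  have e01 : ∀ s : F, k * Tr 0 1 s * k⁻¹ = Tr 0 i s := fun s => by
    rw [Tr_conj k one_ne_zero4.symm hi.symm g0 (y := 1) (by rw [gi]; exact g1), one_mul, one_mul]
  have hk : P k = α k := by rw [← hA]; exact hc A
  have a01 : Apart (0 : Fin (m + 4)) 1 := Or.inl ⟨by simp, by simp⟩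
  have a10 : Apart (1 : Fin (m + 4)) 0 := Or.inl ⟨by simp, by simp⟩
  have key : ∀ x y, Commute (P x) (α y) → Commute (P (k * x * k⁻¹)) (α (k * y * k⁻¹)) := by
    intro x y h
    rw [map_mul, map_mul, map_inv, map_mul, map_mul, map_inv, hk]
    exact (Commute.conj_iff _).2 h
  refine ⟨?_, ?_, ?_, ?_⟩
  · rw [← e10, ← e10]; exact key _ _ (by rw [hP10]; exact (R.far 1 0 one_ne_zero4 a10 t u).1)
  · rw [← e10, ← e01]; exact key _ _ (by rw [hP10]; exact (R.far 0 1 one_ne_zero4.symm a01 t u).1)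
  · rw [← e01, ← e10]; exact key _ _ (by rw [hP01]; exact (R.far 1 0 one_ne_zero4 a10 t u).2)
  · rw [← e01, ← e01]; exact key _ _ (by rw [hP01]; exact (R.far 0 1 one_ne_zero4.symm a01 t u).2)

end CfsgLib.Presentations.OmegaPlus
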