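/-
Few elements of SL generate the two sides of the branch, and few relations imply the local rules.
-/
import Cfsg.Agent.Lib.Presentations.OmegaPlus.Amalgam
import Cfsg.Agent.Lib.Presentations.PSLMain
import Cfsg.Agent.Lib.Classical.SL2Sylow
import Cfsg.Agent.Lib.Classical.SLBasic

set_option autoImplicit false
set_option linter.unusedSectionVars false

namespace CfsgLib.Presentations.OmegaPlus

open Matrix CfsgLib.Chev.CT.SB CfsgLib.Chev.CT.SB.Orth
open CfsgLib.SL2Pres (xHom hDiag wEl)
open Multiplicative (ofAdd)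
open scoped commutatorElement

universe u v

variable {F : Type u} [Field F] [Fintype F]

/-- The normal subgroups of SL above rank one. -/
theorem normal_center_or_top {k : ℕ} (hk : 3 ≤ k) (N : Subgroup (SpecialLinearGroup (Fin k) F))
    [hN : N.Normal] : N ≤ Subgroup.center _ ∨ N = ⊤ := by
  classical
  have h3 : 3 ≤ Fintype.card (Fin k) := by simpa using hk
  haveI := CfsgLib.Classical.isSimpleGroup_PSL (F := F) h3
  let π := QuotientGroup.mk' (Subgroup.center (SpecialLinearGroup (Fin k) F))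
  rcases (Subgroup.Normal.map hN π (QuotientGroup.mk'_surjective _)).eq_bot_or_eq_top with h | h
  · left
    intro x hx
    have : π x = 1 := by
      have := Subgroup.mem_map_of_mem π hx
      rwa [h, Subgroup.mem_bot] at this
    exact (QuotientGroup.eq_one_iff x).1 this
  · right
    have hall : ∀ x, ∃ n ∈ N, ∃ z ∈ Subgroup.center (SpecialLinearGroup (Fin k) F), x = n * z := by
      intro x
      obtain ⟨n, hn, e⟩ := (h ▸ Subgroup.mem_top (π x) : π x ∈ N.map π)
      exact ⟨n, hn, n⁻¹ * x, QuotientGroup.eq.1 e, by group⟩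
    rw [eq_top_iff, ← CfsgLib.Classical.commutator_SL_eq_top (F := F) h3, commutator_eq_closure,
      Subgroup.closure_le]
    rintro _ ⟨x, y, rfl⟩
    obtain ⟨n, hn, z, hz, rfl⟩ := hall x
    obtain ⟨n', hn', z', hz', rfl⟩ := hall y
    have c1 := Subgroup.mem_center_iff.1 hz
    have c2 := Subgroup.mem_center_iff.1 hz'
    have e : ⁅n * z, n' * z'⁆ = ⁅n, n'⁆ := by
      rw [commutatorElement_def, commutatorElement_def]
      calc n * z * (n' * z') * (n * z)⁻¹ * (n' * z')⁻¹
          = n * z * (n' * z') * (z * n)⁻¹ * (z' * n')⁻¹ := by rw [c1 n, c2 n']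
        _ = n * (z * (n' * z') * n⁻¹) * z⁻¹ * n'⁻¹ * z'⁻¹ := by group
        _ = n * (n' * z' * (n⁻¹ * z)) * z⁻¹ * n'⁻¹ * z'⁻¹ := by rw [← c1 (n' * z'), c1 n⁻¹]; group
        _ = n * n' * (n⁻¹ * n'⁻¹ * z') * z'⁻¹ := by rw [c2 (n⁻¹ * n'⁻¹)]; group
        _ = _ := by group
    rw [SetLike.mem_coe, e, commutatorElement_def]
    exact mul_mem (mul_mem (mul_mem hn hn') (inv_mem hn)) (inv_mem hn')

/-- Over fields with two or three elements the two unit root elements generate. -/
theorem roots_gen (h : ¬ 4 ≤ Fintype.card F) :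
    Subgroup.closure ({Cfsg.Agent.S2426.root (true, (1 : F)),
      Cfsg.Agent.S2426.root (false, (1 : F))} : Set (SpecialLinearGroup (Fin 2) F)) = ⊤ := by
  classical
  set C := Subgroup.closure ({Cfsg.Agent.S2426.root (true, (1 : F)),
    Cfsg.Agent.S2426.root (false, (1 : F))} : Set (SpecialLinearGroup (Fin 2) F))
  have hadd : ∀ b (x y : F), Cfsg.Agent.S2426.root (b, x) * Cfsg.Agent.S2426.root (b, y) =
      Cfsg.Agent.S2426.root (b, x + y) := fun b x y => by
    refine Subtype.ext ?_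
    show (Cfsg.Agent.S2426.root (b, x)).1 * (Cfsg.Agent.S2426.root (b, y)).1 = _
    rw [show (Cfsg.Agent.S2426.root (b, x)).1 = _ from Cfsg.Agent.S2426.root_val b x,
      show (Cfsg.Agent.S2426.root (b, y)).1 = _ from Cfsg.Agent.S2426.root_val b y,
      show (Cfsg.Agent.S2426.root (b, x + y)).1 = _ from Cfsg.Agent.S2426.root_val b (x + y)]
    ext i j; fin_cases i <;> fin_cases j <;> cases b <;> simp [mul_apply, Fin.sum_univ_two, add_comm]
  have h1 : ∀ b, Cfsg.Agent.S2426.root (b, (1 : F)) ∈ C := fun b => by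
    cases b <;> exact Subgroup.subset_closure (by simp)
  have hnat : ∀ b (k : ℕ), Cfsg.Agent.S2426.root (b, ((k + 1 : ℕ) : F)) ∈ C := by
    intro b k
    induction k with
    | zero => simpa using h1 b
    | succ k ih => rw [Nat.cast_succ, ← hadd]; exact mul_mem ih (h1 b)
  have hall : ∀ x : F, ∃ k : ℕ, x = ((k + 1 : ℕ) : F) := by
    intro x
    obtain ⟨p, hp⟩ := CharP.exists F
    obtain ⟨r, hpp, hr⟩ := FiniteField.card F p
    have hcard : Fintype.card F = p := by
      have h2 := hpp.two_le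
      have : (r : ℕ) = 1 := by
        by_contra hne
        have hr2 : 2 ≤ (r : ℕ) := by have := r.pos; omega
        have := Nat.pow_le_pow_right (by omega : 1 ≤ p) hr2
        nlinarith [this, h]
      rw [hr, this, pow_one]
    haveI : Fact p.Prime := ⟨hpp⟩
    have hb : Function.Bijective (ZMod.castHom (dvd_refl p) F) :=
      (Fintype.bijective_iff_injective_and_card _).2
        ⟨(ZMod.castHom (dvd_refl p) F).injective, by rw [ZMod.card, hcard]⟩
    obtain ⟨y, rfl⟩ := hb.2 x
    refine ⟨y.val + (p - 1), ?_⟩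
    have : y.val + (p - 1) + 1 = y.val + p := by have := hpp.pos; omega
    rw [this, Nat.cast_add, CharP.cast_eq_zero F p, add_zero, ZMod.castHom_apply, ZMod.cast_eq_val]
  refine eq_top_of_root C fun b x => ?_
  obtain ⟨k, rfl⟩ := hall x
  exact hnat b k

theorem sl2_two_gens : ∃ a b : SpecialLinearGroup (Fin 2) F,
    Subgroup.closure ({a, b} : Set (SpecialLinearGroup (Fin 2) F)) = ⊤ := by
  classical
  by_cases h : 4 ≤ Fintype.card F
  · exact sl2_two_generated h
  exact ⟨_, _, roots_gen h⟩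

theorem sl_two_gens {k : ℕ} (hk : 3 ≤ k) : ∃ c d : SpecialLinearGroup (Fin k) F,
    Subgroup.closure ({c, d} : Set (SpecialLinearGroup (Fin k) F)) = ⊤ := by
  rcases eq_or_lt_of_le hk with rfl | h
  · by_cases h4 : Fintype.card F = 4
    · obtain ⟨u, g, -, -, e⟩ := CfsgLib.Generation.exists_pair_of_card_four (F := F) h4
      exact ⟨_, _, e⟩
    · obtain ⟨u, g, -, -, e⟩ := CfsgLib.Generation.exists_pair_of_card_ne_four (F := F) h4
      exact ⟨_, _, e⟩
  · exact sl_two_generated k h F

/-- A pair of pairs generates the product of the two linear groups. -/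
theorem prod_gens {k : ℕ} (hk : 3 ≤ k) :
    ∃ p r : SpecialLinearGroup (Fin 2) F × SpecialLinearGroup (Fin k) F,
      Subgroup.closure ({p, r} : Set (SpecialLinearGroup (Fin 2) F × SpecialLinearGroup (Fin k) F)) =
        ⊤ := by
  classical
  obtain ⟨a, b, hab⟩ := sl2_two_gens (F := F)
  obtain ⟨c, d, hcd⟩ := sl_two_gens (F := F) hk
  let A := SpecialLinearGroup (Fin 2) F
  let C := SpecialLinearGroup (Fin k) F
  set H : Subgroup (A × C) := Subgroup.closure {(a, c), (b, d)} with hH
  refine ⟨(a, c), (b, d), ?_⟩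
  have hA : H.map (MonoidHom.fst A C) = ⊤ := by
    rw [hH, MonoidHom.map_closure, Set.image_pair]; exact hab
  have hC : H.map (MonoidHom.snd A C) = ⊤ := by
    rw [hH, MonoidHom.map_closure, Set.image_pair]; exact hcd
  let N : Subgroup C := H.comap (MonoidHom.inr A C)
  haveI hN : N.Normal := ⟨fun n hn x => by
    obtain ⟨⟨y, x'⟩, hy, e⟩ := (hC ▸ Subgroup.mem_top x : x ∈ H.map (MonoidHom.snd A C))
    subst e
    have h := mul_mem (mul_mem hy (hn : (1, n) ∈ H)) (inv_mem hy)
    show (1, x' * n * x'⁻¹) ∈ H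
    simpa using h⟩
  have hpick : ∀ y : A, ∃ x : C, (y, x) ∈ H := fun y => by
    obtain ⟨⟨y', x⟩, hy, e⟩ := (hA ▸ Subgroup.mem_top y : y ∈ H.map (MonoidHom.fst A C))
    subst e
    exact ⟨x, hy⟩
  choose σ hσ using hpick
  have huniq : ∀ {y : A} {x : C}, (y, x) ∈ H → (σ y : C ⧸ N) = x := fun {y x} hx => by
    refine QuotientGroup.eq.2 ?_
    show (1, (σ y)⁻¹ * x) ∈ H
    simpa using mul_mem (inv_mem (hσ y)) hx
  let f : A →* C ⧸ N := MonoidHom.mk' (fun y => (σ y : C ⧸ N)) fun y y' => by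
    show (σ (y * y') : C ⧸ N) = σ y * σ y'
    rw [huniq (show (y * y', σ y * σ y') ∈ H from mul_mem (hσ y) (hσ y'))]
    rfl
  have hf : Function.Surjective f := fun q => by
    obtain ⟨x, rfl⟩ := QuotientGroup.mk_surjective q
    obtain ⟨⟨y, x'⟩, hy, e⟩ := (hC ▸ Subgroup.mem_top x : x ∈ H.map (MonoidHom.snd A C))
    subst e
    exact ⟨y, huniq hy⟩
  rcases normal_center_or_top hk N with hcen | htop
  · exfalso
    let i0 : Fin k := ⟨0, by omega⟩
    let i1 : Fin k := ⟨1, by omega⟩
    let i2 : Fin k := ⟨2, by omega⟩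
    have h01 : i0 ≠ i1 := Fin.ne_of_val_ne (by simp [i0, i1, i2])
    have h02 : i0 ≠ i2 := Fin.ne_of_val_ne (by simp [i0, i1, i2])
    have h12 : i1 ≠ i2 := Fin.ne_of_val_ne (by simp [i0, i1, i2])
    let E2 : Multiplicative (F × F) →* C := MonoidHom.mk'
      (fun p => Tr i0 i1 p.toAdd.1 * Tr i0 i2 p.toAdd.2) fun p p' => by
        show Tr i0 i1 (p.toAdd.1 + p'.toAdd.1) * Tr i0 i2 (p.toAdd.2 + p'.toAdd.2) = _
        rw [← Tr_add h01, ← Tr_add h02, mul_assoc (Tr i0 i1 p.toAdd.1), ← mul_assoc (Tr i0 i1 p'.toAdd.1),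
          (Tr_comm0 h01 h02 h02 h01.symm _ _).eq]
        group
    have hinj : Function.Injective ((QuotientGroup.mk' N).comp E2) := by
      rw [injective_iff_map_eq_one]
      intro p hp
      have hz := hcen ((QuotientGroup.eq_one_iff _).1 hp)
      have col : ∀ v, (E2 p).1 *ᵥ v = v + Pi.single i0 (p.toAdd.1 * v i1 + p.toAdd.2 * v i2) := by
        intro v
        show ((Tr i0 i1 _).1 * (Tr i0 i2 _).1) *ᵥ v = _
        rw [← mulVec_mulVec, Tr_mulVec h01, Tr_mulVec h02]
        ext i; simp [Pi.single_apply, h01.symm]; split_ifs <;> ring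
      have key : ∀ j, j ≠ i0 → p.toAdd.1 * (Pi.single j 1 : Fin k → F) i1 +
          p.toAdd.2 * (Pi.single j 1 : Fin k → F) i2 = 0 := fun j hj => by
        have e := congrArg (fun g : C => g.1 *ᵥ Pi.single i0 1) (Subgroup.mem_center_iff.1 hz (Tr j i0 1))
        have e' : (Tr j i0 (1 : F)).1 *ᵥ ((E2 p).1 *ᵥ Pi.single i0 1) =
            (E2 p).1 *ᵥ ((Tr j i0 (1 : F)).1 *ᵥ Pi.single i0 1) := by
          rw [mulVec_mulVec, mulVec_mulVec]; exact e
        rw [col, col, Tr_mulVec hj, Tr_mulVec hj] at e'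
        have e := e'
        have := congrFun e i0
        simpa [Pi.single_apply, h01.symm, h02.symm, hj.symm] using this
      have e1 := key i1 h01.symm
      have e2 := key i2 h02.symm
      simp [h12, h12.symm] at e1 e2
      exact Multiplicative.toAdd.injective (Prod.ext e1 e2)
    have hd : Fintype.card F ^ 2 ∣ Nat.card A := by
      have h1 := Subgroup.card_dvd_of_injective _ hinj
      have h2 := Subgroup.card_dvd_of_surjective f hf
      rw [Nat.card_eq_fintype_card (α := Multiplicative (F × F)), Fintype.card_multiplicative,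
        Fintype.card_prod, ← sq] at h1
      exact h1.trans h2
    rw [CfsgLib.Classical.card_SL_two rfl, sq] at hd
    have hq := Fintype.one_lt_card (α := F)
    obtain ⟨t, ht⟩ := Nat.eq_of_mul_eq_mul_left (by omega : 0 < Fintype.card F)
      (show Fintype.card F * ((Fintype.card F - 1) * (Fintype.card F + 1)) = _ from rfl) ▸
        (Nat.dvd_of_mul_dvd_mul_left (by omega : 0 < Fintype.card F) hd)
    obtain ⟨r, hr⟩ : ∃ r, Fintype.card F = r + 2 := ⟨_, (Nat.sub_add_cancel hq).symm⟩
    rw [hr, show r + 2 - 1 = r + 1 by omega] at ht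
    rcases Nat.lt_or_ge t (r + 2) with h | h <;> nlinarith
  · rw [eq_top_iff]
    rintro ⟨y, x⟩ -
    have h1 : (1, (σ y)⁻¹ * x) ∈ H := (htop ▸ Subgroup.mem_top _ : (σ y)⁻¹ * x ∈ N)
    have h2 := mul_mem (hσ y) h1
    rw [Prod.mk_mul_mk, mul_one, mul_inv_cancel_left] at h2
    exact h2

end CfsgLib.Presentations.OmegaPlus
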