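/-
The commutation rules between the carried root group and the two sides from few relations.
-/
import Cfsg.Agent.Lib.Presentations.OmegaPlus.Gens
import Cfsg.Agent.Lib.Classical.SmallIso.PSL2

set_option autoImplicit false
set_option linter.unusedSectionVars false

namespace CfsgLib.Presentations.OmegaPlus

open Matrix CfsgLib.Chev.CT.SB CfsgLib.Chev.CT.SB.Orth
open scoped commutatorElement
open Cfsg.Agent.S2426 (root root_val)

universe u v

variable {F : Type u} [Field F] [Fintype F] {m : ℕ}

theorem root_true_eq (c : F) : root (true, c) = Tr (0 : Fin 2) 1 c :=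
  Subtype.ext (by
    rw [root_val, Tr_val (by decide)]
    ext i j; fin_cases i <;> fin_cases j <;> simp [Matrix.transvection, Matrix.single])

theorem root_false_eq (c : F) : root (false, c) = Tr (1 : Fin 2) 0 c :=
  Subtype.ext (by
    rw [root_val, Tr_val (by decide)]
    ext i j; fin_cases i <;> fin_cases j <;> simp [Matrix.transvection, Matrix.single])

/-- The indices starting at the first. -/
def fA : Fin 3 → Fin (m + 4) := fun i => ⟨i.1, by omega⟩

/-- The indices starting at the second. -/
def fB : Fin 3 → Fin (m + 4) := fun i => ⟨i.1 + 1, by omega⟩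

theorem fA_inj : Function.Injective (fA (m := m)) := fun a b h => by
  simp only [fA, Fin.ext_iff] at h; exact Fin.ext h

theorem fB_inj : Function.Injective (fB (m := m)) := fun a b h => by
  simp only [fB, Fin.ext_iff] at h; ext; omega

/-- The first two indices. -/
noncomputable def sideA : SpecialLinearGroup (Fin 2) F →* SpecialLinearGroup (Fin (m + 4)) F :=
  (relab le_rfl fA fA_inj).comp (embLast 2)

/-- The indices around the branch. -/
noncomputable def midB : SpecialLinearGroup (Fin 2) F →* SpecialLinearGroup (Fin (m + 4)) F :=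
  (relab le_rfl fB fB_inj).comp (embLast 2)

/-- The indices beyond the first two. -/
noncomputable def sideC : SpecialLinearGroup (Fin (m + 2)) F →* SpecialLinearGroup (Fin (m + 4)) F :=
  (emb F (m + 3)).comp (emb F (m + 2))

theorem sideA_Tr {a b : Fin 2} (h : a ≠ b) (t : F) :
    sideA (m := m) (Tr a b t) = Tr (fA a.castSucc) (fA b.castSucc) t := by
  rw [sideA, MonoidHom.comp_apply, embLast_Tr h, relab_Tr _ _ (by simpa using h)]

theorem midB_Tr {a b : Fin 2} (h : a ≠ b) (t : F) :
    midB (m := m) (Tr a b t) = Tr (fB a.castSucc) (fB b.castSucc) t := by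
  rw [midB, MonoidHom.comp_apply, embLast_Tr h, relab_Tr _ _ (by simpa using h)]

theorem sideC_Tr {a b : Fin (m + 2)} (h : a ≠ b) (t : F) :
    sideC (Tr a b t) = Tr a.succ.succ b.succ.succ t := by
  rw [sideC, MonoidHom.comp_apply, emb_Tr h, emb_Tr (by simpa using h)]

theorem sideA_U (c : F) : sideA (m := m) (root (true, c)) = Tr 0 1 c := by
  rw [root_true_eq, sideA_Tr (by decide)]
  congr 1

theorem sideA_L (c : F) : sideA (m := m) (root (false, c)) = Tr 1 0 c := by
  rw [root_false_eq, sideA_Tr (by decide)]
  congr 1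

theorem midB_U (c : F) : midB (m := m) (root (true, c)) = Tr 1 2 c := by
  rw [root_true_eq, midB_Tr (by decide)]
  congr 1

theorem midB_L (c : F) : midB (m := m) (root (false, c)) = Tr 2 1 c := by
  rw [root_false_eq, midB_Tr (by decide)]
  congr 1

theorem sides_commute (x : SpecialLinearGroup (Fin 2) F) (y : SpecialLinearGroup (Fin (m + 2)) F) :
    Commute (sideA (m := m) x) (sideC y) := by
  have h1 : ∀ (a b : Fin 2), a ≠ b → ∀ t, sideC y ∈
      Subgroup.centralizer ({sideA (m := m) (Tr a b t)} : Set (SpecialLinearGroup (Fin (m + 4)) F)) := by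
    intro a b hab t
    have ht : (Subgroup.centralizer ({sideA (m := m) (Tr a b t)} :
        Set (SpecialLinearGroup (Fin (m + 4)) F))).comap sideC = ⊤ := by
      refine CfsgLib.Classical.SL_le_of_transvections _ fun i j hij c => ?_
      rw [Subgroup.mem_comap, Subgroup.mem_centralizer_singleton_iff, ← Tr_eq hij, sideC_Tr hij,
        sideA_Tr hab]
      exact (Tr_comm0 (by simpa using hij) (fA_inj.ne (by simpa using hab))
        (Fin.ne_of_val_ne (by simp [fA]; omega)) (Fin.ne_of_val_ne (by simp [fA]; omega)) c t).eq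
    exact (ht ▸ Subgroup.mem_top y : y ∈ (Subgroup.centralizer _).comap sideC)
  have ht : (Subgroup.centralizer ({sideC y} : Set (SpecialLinearGroup (Fin (m + 4)) F))).comap
      sideA = ⊤ := by
    refine CfsgLib.Classical.SL_le_of_transvections _ fun i j hij c => ?_
    rw [Subgroup.mem_comap, Subgroup.mem_centralizer_singleton_iff, ← Tr_eq hij]
    exact (Subgroup.mem_centralizer_singleton_iff.1 (h1 i j hij c)).symm
  exact Subgroup.mem_centralizer_singleton_iff.1
    (ht ▸ Subgroup.mem_top x : x ∈ (Subgroup.centralizer _).comap sideA)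

/-- The two sides together. -/
noncomputable def sides : SpecialLinearGroup (Fin 2) F × SpecialLinearGroup (Fin (m + 2)) F →*
    SpecialLinearGroup (Fin (m + 4)) F :=
  MonoidHom.noncommCoprod sideA sideC sides_commute

/-- The root groups of the two sides. -/
def apartSet (F : Type u) [Field F] (m : ℕ) : Set (SpecialLinearGroup (Fin (m + 4)) F) :=
  {x | ∃ i j : Fin (m + 4), i ≠ j ∧ Apart i j ∧ ∃ u, x = Tr i j u}

theorem sides_range : (sides (F := F) (m := m)).range = Subgroup.closure (apartSet F m) := by
  refine le_antisymm ?_ ((Subgroup.closure_le _).2 ?_)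
  · rintro _ ⟨⟨x, y⟩, rfl⟩
    rw [sides, MonoidHom.noncommCoprod_apply]
    refine mul_mem ?_ ?_
    · have : (Subgroup.closure (apartSet F m)).comap sideA = ⊤ := by
        refine CfsgLib.Classical.SL_le_of_transvections _ fun i j hij c => ?_
        rw [Subgroup.mem_comap, ← Tr_eq hij, sideA_Tr hij]
        refine Subgroup.subset_closure ⟨_, _, fA_inj.ne (by simpa using hij), Or.inl ⟨?_, ?_⟩, c, rfl⟩
          <;> simp [fA] <;> omega
      exact (this ▸ Subgroup.mem_top x : x ∈ (Subgroup.closure (apartSet F m)).comap sideA)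
    · have : (Subgroup.closure (apartSet F m)).comap sideC = ⊤ := by
        refine CfsgLib.Classical.SL_le_of_transvections _ fun i j hij c => ?_
        rw [Subgroup.mem_comap, ← Tr_eq hij, sideC_Tr hij]
        exact Subgroup.subset_closure
          ⟨_, _, by simpa using hij, Or.inr ⟨by simp, by simp⟩, c, rfl⟩
      exact (this ▸ Subgroup.mem_top y : y ∈ (Subgroup.closure (apartSet F m)).comap sideC)
  · rintro _ ⟨i, j, hij, hap, u, rfl⟩
    rcases hap with ⟨hi, hj⟩ | ⟨hi, hj⟩
    · refine ⟨(Tr (⟨i.1, hi⟩ : Fin 2) ⟨j.1, hj⟩ u, 1), ?_⟩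
      rw [sides, MonoidHom.noncommCoprod_apply, map_one, mul_one,
        sideA_Tr (Fin.ne_of_val_ne (by simpa using Fin.val_ne_of_ne hij))]
      rfl
    · refine ⟨(1, Tr (⟨i.1 - 2, by omega⟩ : Fin (m + 2)) ⟨j.1 - 2, by omega⟩ u), ?_⟩
      rw [sides, MonoidHom.noncommCoprod_apply, map_one, one_mul,
        sideC_Tr (Fin.ne_of_val_ne (by have := Fin.val_ne_of_ne hij; simp only; omega))]
      congr 1 <;> ext <;> simp <;> omega

/-- The count of elements generating the two sides. -/
def sideCount (F : Type u) [Fintype F] (m : ℕ) : ℕ :=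
  if m = 0 ∧ Fintype.card F ≠ 2 then 3 else 2

theorem normal_top_of_gen {G : Type*} [Group G] (hp : commutator G = ⊤) {a b : G}
    (hab : Subgroup.closure ({a, b} : Set G) = ⊤) (N : Subgroup G) [N.Normal] (ha : a ∈ N) :
    N = ⊤ := by
  rw [eq_top_iff, ← hp, commutator_def, Subgroup.commutator_le]
  let π := QuotientGroup.mk' N
  have hz : ∀ x, π x ∈ Subgroup.zpowers (π b) := fun x => by
    have : Subgroup.closure ({a, b} : Set G) ≤ (Subgroup.zpowers (π b)).comap π := by
      rw [Subgroup.closure_le]
      rintro _ (rfl | rfl)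
      · show π _ ∈ Subgroup.zpowers (π b)
        rw [show π _ = 1 from (QuotientGroup.eq_one_iff _).2 ha]
        exact one_mem _
      · exact Subgroup.mem_zpowers _
    exact this (hab ▸ Subgroup.mem_top x)
  intro x _ y _
  refine (QuotientGroup.eq_one_iff _).1 ?_
  show π ⁅x, y⁆ = 1
  obtain ⟨i, hi⟩ := Subgroup.mem_zpowers_iff.1 (hz x)
  obtain ⟨j, hj⟩ := Subgroup.mem_zpowers_iff.1 (hz y)
  rw [map_commutatorElement, ← hi, ← hj, commutatorElement_eq_one_iff_commute]
  exact Commute.zpow_zpow_self _ _ _

theorem sl2_pair_normal (h2 : Fintype.card F ≠ 2) : ∃ a b : SpecialLinearGroup (Fin 2) F,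
    Subgroup.closure ({a, b} : Set (SpecialLinearGroup (Fin 2) F)) = ⊤ ∧
      ∀ N : Subgroup (SpecialLinearGroup (Fin 2) F), N.Normal → a ∈ N → N = ⊤ := by
  classical
  by_cases h4 : 4 ≤ Fintype.card F
  · obtain ⟨a, b, hab⟩ := sl2_two_gens (F := F)
    exact ⟨a, b, hab, fun N hN ha =>
      haveI := hN
      normal_top_of_gen (CfsgLib.Classical.SmallIso.commutator_sl_two h4) hab N ha⟩
  · refine ⟨_, _, roots_gen h4, fun N hN ha => ?_⟩
    let g : SpecialLinearGroup (Fin 2) F := root (true, 1) * root (false, -1) * root (true, 1)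
    have e : g * root (true, 1) * g⁻¹ = (root (false, (1 : F)))⁻¹ := by
      rw [mul_inv_eq_iff_eq_mul, eq_inv_mul_iff_mul_eq]
      refine Subtype.ext ?_
      show (root (false, (1 : F))).1 * (((root (true, (1 : F))).1 * (root (false, (-1 : F))).1 *
        (root (true, (1 : F))).1) * (root (true, (1 : F))).1) = (root (true, (1 : F))).1 *
        (root (false, (-1 : F))).1 * (root (true, (1 : F))).1
      simp only [root_val]
      ext i j
      fin_cases i <;> fin_cases j <;> simp [Matrix.mul_apply, Fin.sum_univ_two]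
    have hL := inv_mem (e ▸ hN.conj_mem _ ha g)
    rw [inv_inv] at hL
    rw [eq_top_iff, ← roots_gen h4, Subgroup.closure_le]
    rintro _ (rfl | rfl)
    exacts [ha, hL]

/-- Few elements generate the two sides. -/
theorem exists_sideGens : ∃ l : List (SpecialLinearGroup (Fin (m + 4)) F),
    l.length = sideCount F m ∧ Subgroup.closure {x | x ∈ l} = Subgroup.closure (apartSet F m) := by
  classical
  have key : ∀ l : List (SpecialLinearGroup (Fin 2) F × SpecialLinearGroup (Fin (m + 2)) F),
      Subgroup.closure {x | x ∈ l} = ⊤ →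
        Subgroup.closure {x | x ∈ l.map sides} = Subgroup.closure (apartSet F m) := by
    intro l hl
    rw [← sides_range, MonoidHom.range_eq_map, ← hl, MonoidHom.map_closure]
    congr 1
    ext x; simp
  rcases Nat.eq_zero_or_pos m with hm | hm
  swap
  · obtain ⟨p, r, h⟩ := prod_gens (F := F) (show 3 ≤ m + 2 by omega)
    refine ⟨[p, r].map sides, by simp [sideCount]; omega, key _ ?_⟩
    rw [← h]; congr 1; ext x; simp
  subst hm
  by_cases h2 : Fintype.card F = 2
  · let a : SpecialLinearGroup (Fin 2) F := root (true, 1)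
    let b : SpecialLinearGroup (Fin 2) F := root (true, 1) * root (false, 1)
    have two : (1 : F) + 1 = 0 := by
      have hc : ((Fintype.card F : ℕ) : F) = 0 := FiniteField.cast_card_eq_zero F
      rw [h2, Nat.cast_two, ← one_add_one_eq_two] at hc
      exact hc
    have ha : a * a = 1 := Subtype.ext (by
      show (root (true, (1 : F))).1 * (root (true, (1 : F))).1 = 1
      rw [root_val]
      ext i j; fin_cases i <;> fin_cases j <;> simp [Matrix.mul_apply, Fin.sum_univ_two, two])
    have hb : b * b * b = 1 := Subtype.ext (by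
      show ((root (true, (1 : F))).1 * (root (false, (1 : F))).1) *
        ((root (true, (1 : F))).1 * (root (false, (1 : F))).1) *
        ((root (true, (1 : F))).1 * (root (false, (1 : F))).1) = 1
      rw [root_val, root_val]
      ext i j; fin_cases i <;> fin_cases j <;> simp [Matrix.mul_apply, Fin.sum_univ_two, two])
    have hab : Subgroup.closure ({a, b} : Set (SpecialLinearGroup (Fin 2) F)) = ⊤ := by
      rw [eq_top_iff, ← roots_gen (F := F) (by omega), Subgroup.closure_le]
      rintro _ (rfl | rfl)
      · exact Subgroup.subset_closure (Or.inl rfl)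
      · have hh := mul_mem (inv_mem (Subgroup.subset_closure
          (show a ∈ ({a, b} : Set (SpecialLinearGroup (Fin 2) F)) from Or.inl rfl)))
          (Subgroup.subset_closure
          (show b ∈ ({a, b} : Set (SpecialLinearGroup (Fin 2) F)) from Or.inr rfl))
        simpa [a, b] using hh
    refine ⟨[(a, b), (b, a)].map sides, by simp [sideCount, h2], key _ ?_⟩
    set H := Subgroup.closure {x | x ∈ [(a, b), (b, a)]} with hH
    have hp : (a, b) ∈ H := Subgroup.subset_closure (by simp)
    have hr : (b, a) ∈ H := Subgroup.subset_closure (by simp)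
    have h3 : ∀ p ∈ H, p * p * p ∈ H ∧ p * p * p * p ∈ H := fun p hp =>
      ⟨mul_mem (mul_mem hp hp) hp, mul_mem (mul_mem (mul_mem hp hp) hp) hp⟩
    have e1 := h3 _ hp
    have e2 := h3 _ hr
    simp only [Prod.mk_mul_mk, hb, one_mul, ha] at e1 e2
    have hL : ∀ x, (x, 1) ∈ H := fun x => by
      have : Subgroup.closure ({a, b} : Set (SpecialLinearGroup (Fin 2) F)) ≤
          H.comap (MonoidHom.inl _ _) := by
        rw [Subgroup.closure_le]
        rintro _ (rfl | rfl)
        exacts [e1.1, e2.2]
      exact this (hab ▸ Subgroup.mem_top x)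
    have hR : ∀ y, (1, y) ∈ H := fun y => by
      have : Subgroup.closure ({a, b} : Set (SpecialLinearGroup (Fin 2) F)) ≤
          H.comap (MonoidHom.inr _ _) := by
        rw [Subgroup.closure_le]
        rintro _ (rfl | rfl)
        exacts [e2.1, e1.2]
      exact this (hab ▸ Subgroup.mem_top y)
    rw [eq_top_iff]
    rintro ⟨x, y⟩ -
    simpa using mul_mem (hL x) (hR y)
  · obtain ⟨a, b, hab, hN⟩ := sl2_pair_normal (F := F) h2
    refine ⟨[(a, 1), (b, a), (1, b)].map sides, by simp [sideCount, h2], key _ ?_⟩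
    set H := Subgroup.closure {x | x ∈ [(a, 1), (b, a), (1, b)]} with hH
    have m1 : (a, 1) ∈ H := Subgroup.subset_closure (by simp)
    have m2 : (b, a) ∈ H := Subgroup.subset_closure (by simp)
    have m3 : (1, b) ∈ H := Subgroup.subset_closure (by simp)
    have hfst : H.map (MonoidHom.fst _ _) = ⊤ := by
      rw [eq_top_iff, ← hab, Subgroup.closure_le]
      rintro _ (rfl | rfl)
      exacts [⟨_, m1, rfl⟩, ⟨_, m2, rfl⟩]
    let N := H.comap (MonoidHom.inl (SpecialLinearGroup (Fin 2) F) (SpecialLinearGroup (Fin 2) F))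
    have hL : ∀ x, (x, 1) ∈ H := fun x => by
      refine (hN N ⟨fun n hn x => ?_⟩ m1 ▸ Subgroup.mem_top x : x ∈ N)
      obtain ⟨⟨x', y⟩, hy, e⟩ := (hfst ▸ Subgroup.mem_top x : x ∈ H.map (MonoidHom.fst _ _))
      subst e
      have h := mul_mem (mul_mem hy (hn : (n, 1) ∈ H)) (inv_mem hy)
      show (x' * n * x'⁻¹, 1) ∈ H
      simpa using h
    have hR : ∀ y, (1, y) ∈ H := fun y => by
      have : Subgroup.closure ({a, b} : Set (SpecialLinearGroup (Fin 2) F)) ≤
          H.comap (MonoidHom.inr _ _) := by
        rw [Subgroup.closure_le]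
        rintro _ (rfl | rfl)
        · show (1, _) ∈ H
          simpa using mul_mem (inv_mem (hL b)) m2
        · exact m3
      exact this (hab ▸ Subgroup.mem_top y)
    rw [eq_top_iff]
    rintro ⟨x, y⟩ -
    simpa using mul_mem (hL x) (hR y)

end CfsgLib.Presentations.OmegaPlus
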