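/-
The orthogonal group of plus type as a model of the relations of a pairing.
-/
import Cfsg.Agent.Lib.Chev.CT.SingleBond.OrthIso

set_option autoImplicit false
set_option linter.unusedSectionVars false

namespace CfsgLib.Presentations.OmegaPlus

open Matrix CfsgLib.Classical CfsgLib.Classical.Spin CfsgLib.Classical22 CfsgLib.Chev.Ortho
open CfsgLib.Chev.CT.SB CfsgLib.Chev.CT.SB.Orth

open scoped commutatorElement

universe u

/-- The isometries of the plus type form. -/
abbrev Iso (F : Type u) [Field F] (m : ℕ) := Cfsg.isometryGroup F ⇑(qPlus (m + 4) F)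

variable {F : Type u} [Field F] {m : ℕ}

/-- The matrix of an isometry. -/
def mat : Iso F m →* Matrix (Fin (m + 4) ⊕ Fin (m + 4)) (Fin (m + 4) ⊕ Fin (m + 4)) F :=
  (Units.coeHom _).comp (Iso F m).subtype

theorem mat_inj : Function.Injective (mat (F := F) (m := m)) :=
  fun _ _ e => Subtype.ext (Units.ext e)

theorem exists_lev (g : SpecialLinearGroup (Fin (m + 4)) F) :
    ∃ x : Iso F m, mat x = fromBlocks g.1 0 0 (iota _ g).1 :=
  exists_isometry_of_matrix _ (polarNondeg_qPlus _) _ fun x => by
    rw [qPlus_eq_dot, qPlus_eq_dot, fromBlocks_mulVec, Sum.elim_comp_inl, Sum.elim_comp_inr]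
    simp only [zero_mulVec, add_zero, zero_add]
    rw [dotProduct_mulVec, ← mulVec_transpose, mulVec_mulVec, iota_transpose_mul', one_mulVec]

theorem exists_up {M : Matrix (Fin (m + 4)) (Fin (m + 4)) F} (hM : Skew M) :
    ∃ x : Iso F m, mat x = fromBlocks 1 M 0 1 :=
  exists_isometry_of_matrix _ (polarNondeg_qPlus _) _ fun x => by
    rw [qPlus_eq_dot, qPlus_eq_dot, fromBlocks_mulVec, Sum.elim_comp_inl, Sum.elim_comp_inr]
    simp only [zero_mulVec, zero_add, one_mulVec, add_dotProduct, hM.dot_self, add_zero]

theorem exists_lo {M : Matrix (Fin (m + 4)) (Fin (m + 4)) F} (hM : Skew M) :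
    ∃ x : Iso F m, mat x = fromBlocks 1 0 M 1 :=
  exists_isometry_of_matrix _ (polarNondeg_qPlus _) _ fun x => by
    rw [qPlus_eq_dot, qPlus_eq_dot, fromBlocks_mulVec, Sum.elim_comp_inl, Sum.elim_comp_inr]
    simp only [zero_mulVec, add_zero, one_mulVec, dotProduct_add]
    rw [dotProduct_comm (x ∘ Sum.inl), hM.dot_self, zero_add]

/-- The Levi subgroup. -/
noncomputable def lev : SpecialLinearGroup (Fin (m + 4)) F →* Iso F m :=
  MonoidHom.mk' (fun g => (exists_lev g).choose) fun a b => mat_inj (by
    refine ((exists_lev (a * b)).choose_spec).trans (Eq.trans ?_ (map_mul mat _ _).symm)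
    rw [(exists_lev a).choose_spec, (exists_lev b).choose_spec, fromBlocks_multiply]
    simp)

theorem mat_lev (g : SpecialLinearGroup (Fin (m + 4)) F) :
    mat (lev g) = fromBlocks g.1 0 0 (iota _ g).1 := (exists_lev g).choose_spec

/-- The upper unipotent radical. -/
noncomputable def up (M : Matrix (Fin (m + 4)) (Fin (m + 4)) F) : Iso F m :=
  haveI := _root_.Classical.propDecidable (Skew M)
  if hM : Skew M then (exists_up hM).choose else 1

/-- The lower unipotent radical. -/
noncomputable def lo (M : Matrix (Fin (m + 4)) (Fin (m + 4)) F) : Iso F m :=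
  haveI := _root_.Classical.propDecidable (Skew M)
  if hM : Skew M then (exists_lo hM).choose else 1

theorem mat_up {M : Matrix (Fin (m + 4)) (Fin (m + 4)) F} (hM : Skew M) :
    mat (up M) = fromBlocks 1 M 0 1 := by
  rw [up, dif_pos hM]; exact (exists_up hM).choose_spec

theorem mat_lo {M : Matrix (Fin (m + 4)) (Fin (m + 4)) F} (hM : Skew M) :
    mat (lo M) = fromBlocks 1 0 M 1 := by
  rw [lo, dif_pos hM]; exact (exists_lo hM).choose_spec

theorem mat_Wel {a b : Fin (m + 4)} (hab : a ≠ b) {t : F} (ht : t ≠ 0) :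
    mat (W up lo a b t) =
      fromBlocks (1 + E a b 1 * E a b 1) (E a b t) (E a b t⁻¹) (1 + E a b 1 * E a b 1) := by
  rw [W, map_mul, map_mul, mat_up (skew_E _ _ _), mat_lo (skew_E _ _ _), mat_W hab ht]

/-- The model satisfies the relations. -/
theorem odata : OData (lev (F := F) (m := m)) up lo :=
  
    { U_add := fun M N hM hN => mat_inj (by
        rw [map_mul, mat_up (hM.add hN), mat_up hM, mat_up hN, fromBlocks_multiply]
        simp [add_comm])
      L_add := fun M N hM hN => mat_inj (by
        rw [map_mul, mat_lo (hM.add hN), mat_lo hM, mat_lo hN, fromBlocks_multiply]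
        simp)
      U_conj := fun g M hM => by
        rw [mul_inv_eq_iff_eq_mul]
        refine mat_inj ?_
        show mat (lev g * up M) = mat (up _ * lev g)
        rw [map_mul, map_mul, mat_lev, mat_up hM, mat_up (hM.conj _), fromBlocks_multiply,
          fromBlocks_multiply]
        simp [Matrix.mul_assoc, iota_transpose_mul]
      L_conj := fun g M hM => by
        rw [mul_inv_eq_iff_eq_mul]
        refine mat_inj ?_
        show mat (lev g * lo M) = mat (lo _ * lev g)
        rw [map_mul, map_mul, mat_lev, mat_lo hM, mat_lo (hM.conj _), fromBlocks_multiply,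
          fromBlocks_multiply]
        simp [Matrix.mul_assoc, iota_transpose_mul']
      ul1 := fun a b c hab hbc hac t u => by
        rw [mul_inv_eq_iff_eq_mul]
        refine mat_inj ?_
        show mat (_ * _) = mat (lev _ * _ * _)
        rw [map_mul, map_mul, map_mul, mat_up (skew_E _ _ _), mat_lo (skew_E _ _ _), mat_lev,
          mat_ul1 hab hbc hac]
      disj := fun a b c d _ _ hac had hbc hbd t u => mat_inj (by
        rw [map_mul, map_mul, mat_up (skew_E _ _ _), mat_lo (skew_E _ _ _),
          mat_disj hac had hbc hbd])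
      w1 := fun a b hab t ht u => by
        rw [mul_inv_eq_iff_eq_mul]
        refine mat_inj ?_
        rw [map_mul, map_mul, mat_Wel hab ht, mat_up (skew_E _ _ _), mat_lo (skew_E _ _ _),
          mat_w1 hab ht]
      w2 := fun a b hab t ht u => by
        rw [mul_inv_eq_iff_eq_mul]
        refine mat_inj ?_
        rw [map_mul, map_mul, mat_Wel hab ht, mat_up (skew_E _ _ _), mat_lo (skew_E _ _ _),
          mat_w2 hab ht] }

/-- The subgroup generated by the Levi subgroup and the two radicals. -/
def gens (F : Type u) [Field F] (m : ℕ) : Subgroup (Iso F m) :=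
  Subgroup.closure (Set.range lev ∪ up '' {M | Skew M} ∪ lo '' {M | Skew M})

theorem Omega_le_gens [Finite F] : Cfsg.Omega F ⇑(qPlus (m + 4) F) ≤ gens F m := by
  classical
  haveI : Fintype F := Fintype.ofFinite F
  set q := qPlus (m + 4) F with hq
  let O := Iso F m
  let R : Subgroup O := gens F m
  have mlev : ∀ g, lev g ∈ R := fun g => Subgroup.subset_closure (Or.inl (Or.inl ⟨g, rfl⟩))
  have mup : ∀ {M}, Skew M → up M ∈ R := fun {M} hM =>
    Subgroup.subset_closure (Or.inl (Or.inr ⟨M, hM, rfl⟩))
  have mlo : ∀ {M}, Skew M → lo M ∈ R := fun {M} hM =>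
    Subgroup.subset_closure (Or.inr ⟨M, hM, rfl⟩)
  -- all Eichler transformations at the first pair
  have hsing : ∀ (a k : Fin (m + 4) ⊕ Fin (m + 4)) (c : F), (a = .inl 0 ∨ a = .inr 0) →
      k ≠ Sum.swap a → ei q (bv F a) (c • bv F k) ∈ R := by
    intro a k c ha hk
    have hQ : ∀ i : Fin (m + 4) ⊕ Fin (m + 4), q (bv F i) = 0 := fun i => qPlus_single i
    have hpol : ∀ (i : Fin (m + 4) ⊕ Fin (m + 4)) (x : Fin (m + 4) ⊕ Fin (m + 4) → F),
        QuadraticMap.polar q x (bv F i) = x (Sum.swap i) := fun i x => by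
      rcases i with i | i
      exacts [polar_qPlus_inl x i, polar_qPlus_inr x i]
    have horth : QuadraticMap.polar q (bv F a) (c • bv F k) = 0 := by
      rw [QuadraticMap.polar_smul_right, hpol, smul_eq_mul, bv, Pi.single_eq_of_ne, mul_zero]
      intro e
      exact hk (by rw [← e, Sum.swap_swap])
    by_cases hka : k = a
    · subst hka
      have e := ei_add_self q (w := (0 : Fin (m + 4) ⊕ Fin (m + 4) → F)) (hQ k)
        (QuadraticMap.polar_zero_right _ _) c
      rw [zero_add, ei_zero q (hQ k)] at e
      rw [e]; exact one_mem _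
    have hext : ∀ g : O, (∀ x, mat g *ᵥ x = x + x (Sum.swap a) • c • bv F k -
        (c * x (Sum.swap k)) • bv F a) → g = ei q (bv F a) (c • bv F k) := fun g hg =>
      mat_inj (Matrix.ext_of_mulVec_single fun i => by
        rw [hg]
        show _ = isoApply (ei q (bv F a) (c • bv F k)) _
        rw [ei_apply q (hQ a) horth, hpol, QuadraticMap.polar_smul_right, hpol, quad_smul, hQ k,
          mul_zero, zero_mul, add_zero, smul_eq_mul])
    rcases ha with rfl | rfl <;> rcases k with k | k <;>
      simp only [Sum.swap_inl, Sum.swap_inr, ne_eq, Sum.inl.injEq, Sum.inr.injEq, not_false_eq_true,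
        reduceCtorEq] at hk hka hext
    · rw [← hext (up (E k 0 c)) fun x => ?_]
      · exact mup (skew_E _ _ _)
      rw [mat_up (skew_E _ _ _), fromBlocks_mulVec, E_mulVec]
      ext (i | i) <;> simp [bv, Pi.single_apply, mul_comm]
      ring
    · rw [← hext (lev (Tr 0 k (-c))) fun x => ?_]
      · exact mlev _
      rw [mat_lev, fromBlocks_mulVec, iota_Tr (Ne.symm hk), neg_neg]
      simp only [zero_mulVec, add_zero, zero_add, Tr_mulVec (Ne.symm hk), Tr_mulVec hk]
      ext (i | i) <;> simp [bv, Pi.single_apply, mul_comm]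
      split_ifs <;> ring
    · rw [← hext (lev (Tr k 0 c)) fun x => ?_]
      · exact mlev _
      rw [mat_lev, fromBlocks_mulVec, iota_Tr hk]
      simp only [zero_mulVec, add_zero, zero_add, Tr_mulVec (Ne.symm hk), Tr_mulVec hk]
      ext (i | i) <;> simp [bv, Pi.single_apply, mul_comm]
      split_ifs <;> ring
    · rw [← hext (lo (E k 0 c)) fun x => ?_]
      · exact mlo (skew_E _ _ _)
      rw [mat_lo (skew_E _ _ _), fromBlocks_mulVec, E_mulVec]
      ext (i | i) <;> simp [bv, Pi.single_apply, mul_comm]
      ring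
  have hfull : ∀ a : Fin (m + 4) ⊕ Fin (m + 4), (a = .inl 0 ∨ a = .inr 0) →
      EFull q (R.map (isoEquiv q).toMonoidHom) (bv F a) := by
    intro a ha w hw
    have hQ : q (bv F a) = 0 := qPlus_single a
    have hpol : ∀ x : Fin (m + 4) ⊕ Fin (m + 4) → F,
        QuadraticMap.polar q (bv F a) x = x (Sum.swap a) := fun x => by
      rw [QuadraticMap.polar_comm]
      rcases a with i | i
      exacts [polar_qPlus_inl x i, polar_qPlus_inr x i]
    rw [hpol] at hw
    refine ⟨ei q (bv F a) w, ?_, (isoEquiv q).apply_symm_apply _⟩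
    suffices hs : ∀ s : Finset (Fin (m + 4) ⊕ Fin (m + 4)),
        ei q (bv F a) (∑ k ∈ s, w k • bv F k) ∈ R ∧
          QuadraticMap.polar q (bv F a) (∑ k ∈ s, w k • bv F k) = 0 by
      have e : w = ∑ k, w k • bv F k := by
        ext k; simp [bv, Finset.sum_apply, Pi.single_apply]
      rw [e]; exact (hs _).1
    intro s
    induction s using Finset.induction with
    | empty => simp [ei_zero q hQ]
    | insert k s hks ih =>
      have hk0 : QuadraticMap.polar q (bv F a) (w k • bv F k) = 0 := by
        rw [hpol]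
        by_cases e : k = Sum.swap a
        · subst e; simp [hw]
        · simp [bv, Pi.single_eq_of_ne (Ne.symm e)]
      rw [Finset.sum_insert hks]
      refine ⟨?_, by rw [QuadraticMap.polar_add_right, hk0, ih.2, add_zero]⟩
      rw [← ei_mul q hQ hk0 ih.2]
      refine mul_mem ?_ ih.1
      by_cases e : k = Sum.swap a
      · subst e; simp [hw, ei_zero q hQ]
      · exact hsing a k _ ha e
  have hnd := polarNondeg_qPlus (F := F) (m + 4)
  have hrank : Module.finrank F (Fin (m + 4) ⊕ Fin (m + 4) → F) = (m + 4) + (m + 4) := by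
    rw [Module.finrank_pi, Fintype.card_sum, Fintype.card_fin]
  have hOR : Cfsg.Omega F ⇑q ≤ R := fun x hx => by
    rw [mem_Omega_iff, ← eichGroup_eq_commutator q hnd (by rw [hrank]; omega)] at hx
    have hle := eichGroup_le_of_full q hnd (by rw [hrank]; omega) (u := bv F (Sum.inl 0))
      (v := bv F (Sum.inr 0)) (qPlus_single _) (qPlus_single _)
      (by rw [show bv F (Sum.inr (0 : Fin (m + 4))) = Pi.single (Sum.inr 0) (1 : F) from rfl,
            hq, polar_qPlus_inr]
          simp [bv])
      (hfull _ (Or.inl rfl)) (hfull _ (Or.inr rfl))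
    obtain ⟨y, hy, e⟩ := hle hx
    rwa [(isoEquiv q).injective e] at hy
  exact hOR

end CfsgLib.Presentations.OmegaPlus
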