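/-
The terms of the two global relations, and their values in the model.
-/
import Cfsg.Agent.Lib.Presentations.OmegaPlus.Amalgam
import Cfsg.Agent.Lib.Presentations.OmegaPlus.Model

set_option autoImplicit false
set_option linter.unusedSectionVars false

namespace CfsgLib.Presentations.OmegaPlus

open Matrix CfsgLib.Chev.CT.SB CfsgLib.Chev.CT.SB.Orth CfsgLib.Classical CfsgLib.Classical22
open CfsgLib.Chev.Ortho CfsgLib.Classical.Spin

open scoped commutatorElement

universe u v

variable {F : Type u} [Field F] {m : ℕ}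

/-- The fourth index. -/
def i3 : Fin (m + 4) := ⟨3, by omega⟩

theorem i3_ne {i : Fin (m + 4)} (h : i.1 < 3) : i ≠ (i3 : Fin (m + 4)) :=
  Fin.ne_of_val_ne (by simp only [i3]; omega)

theorem penult_val : ∀ k, (penult k).1 = k
  | 0 => rfl
  | k + 1 => by rw [penult, Fin.val_succ, penult_val k]

theorem ult_val : ∀ k, (ult k).1 = k + 1
  | 0 => rfl
  | k + 1 => by rw [ult, Fin.val_succ, ult_val k]

theorem penult_ne_ult (k : ℕ) : penult k ≠ ult k :=
  Fin.ne_of_val_ne (by rw [penult_val, ult_val]; omega)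

/-- The monomial carrying the first pair to a pair. -/
noncomputable def pairEl {a b : Fin (m + 4)} (hab : a ≠ b) : SpecialLinearGroup (Fin (m + 4)) F :=
  (exists_pair hab).choose

theorem pairEl_spec {a b : Fin (m + 4)} (hab : a ≠ b) :
    (pairEl (F := F) hab).1 *ᵥ Pi.single 1 1 = Pi.single a 1 ∧
      (pairEl (F := F) hab).1 *ᵥ Pi.single 0 1 = Pi.single b 1 ∧
      iota (m + 4) (pairEl (F := F) hab) = pairEl hab :=
  (exists_pair hab).choose_spec

section Terms

variable {G : Type v} [Group G] (α : SpecialLinearGroup (Fin (m + 4)) F → G) (w : G)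

/-- An upper root element as a term. -/
def uT (g : SpecialLinearGroup (Fin (m + 4)) F) : G :=
  α g * (w * α (Tr 1 0 1) * w⁻¹) * (α g)⁻¹

/-- A lower root element as a term. -/
def lT (g : SpecialLinearGroup (Fin (m + 4)) F) : G :=
  α g * (w * α (Tr 0 1 (-1)) * w⁻¹) * (α g)⁻¹

/-- A Weyl element as a term. -/
def wT (g : SpecialLinearGroup (Fin (m + 4)) F) : G := uT α w g * lT α w g * uT α w g

/-- The term that spans the kernel of the covering. -/
noncomputable def zTerm : G :=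
  α (negTwo F (m + 2)) * (wT α w (pairEl (penult_ne_ult (m + 2))) *
    wT α w (pairEl (penult_ne_ult (m + 2))))

/-- The term expressing the carrying element. -/
noncomputable def wWord : G :=
  wT α w (pairEl (i3_ne (i := (0 : Fin (m + 4))) (by simp))) * α (Wy 0 i3 (-1))

variable {α w}

theorem map_zTerm {G' : Type*} [Group G'] (φ : G →* G') :
    φ (zTerm α w) = zTerm (φ ∘ α) (φ w) := by simp [zTerm, wT, uT, lT]

theorem map_wWord {G' : Type*} [Group G'] (φ : G →* G') :
    φ (wWord α w) = wWord (φ ∘ α) (φ w) := by simp [wWord, wT, uT, lT]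

end Terms

theorem negTwo_val : ∀ k, (negTwo F k).1 = Matrix.diagonal fun i => if k ≤ i.1 then (-1 : F) else 1
  | 0 => by
    show (-1 : Matrix (Fin 2) (Fin 2) F) = _
    ext i j; fin_cases i <;> fin_cases j <;> simp
  | k + 1 => by
    show extc 1 (negTwo F k).1 = _
    rw [negTwo_val k]
    refine extc_ext (by simp) (fun j => by simp [Matrix.diagonal, (Fin.succ_ne_zero j).symm])
      (fun i => by simp [Matrix.diagonal, Fin.succ_ne_zero]) fun i j => ?_
    simp [Matrix.diagonal, Fin.succ_inj]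

/-- The carrying element of the model. -/
noncomputable def w0 (F : Type u) [Field F] (m : ℕ) : Iso F m :=
  W up lo 0 i3 1 * lev (Wy 0 i3 (-1))

theorem one_lt : ((1 : Fin (m + 4)) : ℕ) < 3 := by simp

theorem zero_lt : ((0 : Fin (m + 4)) : ℕ) < 3 := by simp

theorem two_lt : ((2 : Fin (m + 4)) : ℕ) < 3 := by rw [val_two]; omega

theorem Tr_Wy_comm {p q : Fin (m + 4)} (hpq : p ≠ q) (h1 : p ≠ 0) (h2 : q ≠ 0) (h3 : p ≠ i3)
    (h4 : q ≠ i3) (s t : F) : Commute (Wy 0 i3 s) (Tr p q t) := by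
  have h03 : (0 : Fin (m + 4)) ≠ i3 := i3_ne zero_lt
  exact ((Tr_comm0 h03 hpq (Ne.symm h2) (Ne.symm h3) _ _).mul_left
    (Tr_comm0 h03.symm hpq (Ne.symm h4) (Ne.symm h1) _ _)).mul_left
    (Tr_comm0 h03 hpq (Ne.symm h2) (Ne.symm h3) _ _)

theorem w0_conj10 (t : F) : w0 F m * lev (Tr 1 0 t) * (w0 F m)⁻¹ = up (E 1 0 t) := by
  have h03 : (0 : Fin (m + 4)) ≠ i3 := i3_ne zero_lt
  have h13 : (1 : Fin (m + 4)) ≠ i3 := i3_ne one_lt
  have hn : (-1 : F) ≠ 0 := neg_ne_zero.2 one_ne_zero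
  set g : SpecialLinearGroup (Fin (m + 4)) F := Wy 0 i3 (-1) with hg
  have g1 : g.1 *ᵥ Pi.single 1 1 = Pi.single 1 1 := by
    show ((Tr (0 : Fin (m + 4)) i3 _).1 * (Tr i3 0 _).1 * (Tr 0 i3 _).1) *ᵥ _ = _
    rw [← mulVec_mulVec, ← mulVec_mulVec, Tr_mulVec h03, Tr_mulVec h03.symm, Tr_mulVec h03]
    simp [h13.symm, one_ne_zero4.symm]
  have gi : iota _ g = Wy i3 0 1 := by
    simp only [hg, Wy, map_mul, iota_Tr h03, iota_Tr h03.symm]
    norm_num
  have g0 : (iota _ g).1 *ᵥ Pi.single 0 1 = Pi.single i3 1 := by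
    rw [gi, Wy_snd h03.symm one_ne_zero]
  have e : lev g * lev (Tr 1 0 t) * (lev g)⁻¹ = lev (F := F) (Tr 1 i3 t) := by
    rw [← map_inv, ← map_mul, ← map_mul, Tr_conj g one_ne_zero4 h13 g1 g0, one_mul, one_mul]
  have hW := odata.W_U_bc (F := F) (Φ := lev) (U := up) (L := lo) h03.symm one_ne_zero4.symm
    h13.symm one_ne_zero (-t)
  rw [W_flip, div_one, neg_neg, ← odata.W_inv, inv_inv] at hW
  rw [w0, show W up lo 0 i3 1 * lev g * lev (Tr 1 0 t) * (W up lo 0 i3 1 * lev g)⁻¹ =
    W up lo 0 i3 1 * (lev g * lev (Tr 1 0 t) * (lev g)⁻¹) * (W up lo 0 i3 1)⁻¹ by group, e, ← hW,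
    show E (1 : Fin (m + 4)) 0 t = E 0 1 (-t) from E_swap 0 1 t]
  group

theorem w0_conj01 (t : F) : w0 F m * lev (Tr 0 1 t) * (w0 F m)⁻¹ = lo (E 0 1 t) := by
  have h03 : (0 : Fin (m + 4)) ≠ i3 := i3_ne zero_lt
  have h13 : (1 : Fin (m + 4)) ≠ i3 := i3_ne one_lt
  set g : SpecialLinearGroup (Fin (m + 4)) F := Wy 0 i3 (-1) with hg
  have g0 : g.1 *ᵥ Pi.single 0 1 = Pi.single i3 1 := by
    rw [hg, Wy_fst h03 (neg_ne_zero.2 one_ne_zero)]; simp
  have gi : iota _ g = Wy i3 0 1 := by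
    simp only [hg, Wy, map_mul, iota_Tr h03, iota_Tr h03.symm]
    norm_num
  have g1 : (iota _ g).1 *ᵥ Pi.single 1 1 = Pi.single 1 1 := by
    rw [gi]
    show ((Tr (i3 : Fin (m + 4)) 0 _).1 * (Tr 0 i3 _).1 * (Tr i3 0 _).1) *ᵥ _ = _
    rw [← mulVec_mulVec, ← mulVec_mulVec, Tr_mulVec h03.symm, Tr_mulVec h03, Tr_mulVec h03.symm]
    simp [h13.symm, one_ne_zero4.symm]
  have e : lev g * lev (Tr 0 1 t) * (lev g)⁻¹ = lev (F := F) (Tr i3 1 t) := by
    rw [← map_inv, ← map_mul, ← map_mul, Tr_conj g one_ne_zero4.symm h13.symm g0 g1, one_mul, one_mul]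
  have hW := odata.W_L_bc (F := F) (Φ := lev) (U := up) (L := lo) h03.symm one_ne_zero4.symm
    h13.symm one_ne_zero t
  rw [W_flip, mul_one, ← odata.W_inv, inv_inv] at hW
  rw [w0, show W up lo 0 i3 1 * lev g * lev (Tr 0 1 t) * (W up lo 0 i3 1 * lev g)⁻¹ =
    W up lo 0 i3 1 * (lev g * lev (Tr 0 1 t) * (lev g)⁻¹) * (W up lo 0 i3 1)⁻¹ by group, e, ← hW]
  group

theorem rules_model : Rules (lev (F := F) (m := m)) (w0 F m) := by
  have h12 : (1 : Fin (m + 4)) ≠ 2 := two_ne_one4.symm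
  have h13 : (1 : Fin (m + 4)) ≠ i3 := i3_ne one_lt
  have h23 : (2 : Fin (m + 4)) ≠ i3 := i3_ne two_lt
  have hc : ∀ p q : Fin (m + 4), p ≠ q → p ≠ 0 → q ≠ 0 → p ≠ i3 → q ≠ i3 → ∀ t : F,
      Commute (w0 F m) (lev (Tr p q t)) := fun p q hpq hp hq hp' hq' t => by
    refine Commute.mul_left ?_ ((Tr_Wy_comm hpq hp hq hp' hq' _ _).map lev)
    exact ((((odata.Tr_U_comm hpq hq hq' t 1).symm).mul_left
      (odata.Tr_L_comm hpq hp hp' t 1⁻¹).symm).mul_left (odata.Tr_U_comm hpq hq hq' t 1).symm)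
  refine ⟨fun t => ⟨hc _ _ h12 one_ne_zero4 two_ne_zero4 h13 h23 t,
    hc _ _ h12.symm two_ne_zero4 one_ne_zero4 h23 h13 t⟩, fun i j hij hap t u => ?_⟩
  have hd : ∀ {M : Matrix (Fin (m + 4)) (Fin (m + 4)) F}, (Tr i j u).1 * M * (Tr i j u).1ᵀ = M →
      Skew M → Commute (lev (Tr i j u)) (up M) := fun h hM => by
    show _ * _ = _ * _
    rw [odata.Tr_U hij u hM, h]
  rcases hap with ⟨hi, hj⟩ | ⟨hi, hj⟩
  · have hh : ∀ k : Fin (m + 4), k.1 < 2 → k = 0 ∨ k = 1 := fun k hk => by
      rcases Nat.lt_succ_iff.1 hk |>.lt_or_eq with h | h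
      · exact Or.inl (Fin.ext (by rw [Fin.val_zero]; omega))
      · exact Or.inr (Fin.ext (by simp [h]))
    rw [w0_conj10, w0_conj01]
    refine ⟨(hd ?_ (skew_E _ _ _)).symm, ?_⟩
    · rcases hh i hi with rfl | rfl <;> rcases hh j hj with rfl | rfl
      · exact absurd rfl hij
      · rw [trE_fst hij hij.symm, E_self, add_zero]
      · rw [E_swap 0 1, trE_fst hij hij.symm, E_self, add_zero]
      · exact absurd rfl hij
    · have h := odata.L_conj (F := F) (Φ := lev) (U := up) (L := lo) (Tr i j u) _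
        (skew_E (0 : Fin (m + 4)) 1 t)
      rw [mul_inv_eq_iff_eq_mul, iota_Tr hij] at h
      have e : (Tr j i (-u)).1 * E (0 : Fin (m + 4)) 1 t * (Tr j i (-u)).1ᵀ = E 0 1 t := by
        rcases hh i hi with rfl | rfl <;> rcases hh j hj with rfl | rfl
        · exact absurd rfl hij
        · rw [trE_fst hij.symm hij, E_self, add_zero]
        · rw [E_swap 1 0, trE_fst hij.symm hij, E_self, add_zero]
        · exact absurd rfl hij
      rw [e] at h
      exact (show Commute (lev (Tr i j u)) (lo (E 0 1 t)) from h).symm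
  · have hk : ∀ k : Fin (m + 4), 2 ≤ k.1 → k ≠ 0 ∧ k ≠ 1 := fun k hk =>
      ⟨Fin.ne_of_val_ne (by rw [Fin.val_zero]; omega), Fin.ne_of_val_ne (by rw [Fin.val_one]; omega)⟩
    rw [w0_conj10, w0_conj01]
    exact ⟨(odata.Tr_U_comm hij (hk j hj).2 (hk j hj).1 u t).symm,
      (odata.Tr_L_comm hij (hk i hi).1 (hk i hi).2 u t).symm⟩

theorem skew_single_conj {n : ℕ} {g : Matrix (Fin n) (Fin n) F} {a b a' b' : Fin n}
    (ha : g *ᵥ Pi.single a 1 = Pi.single a' 1) (hb : g *ᵥ Pi.single b 1 = Pi.single b' 1) (t : F) :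
    g * E a b t * gᵀ = E a' b' t := by
  have h : ∀ (c d c' d' : Fin n), g *ᵥ Pi.single c 1 = Pi.single c' 1 →
      g *ᵥ Pi.single d 1 = Pi.single d' 1 →
      g * Matrix.single c d t * gᵀ = Matrix.single c' d' t := by
    intro c d c' d' hc hd
    ext i j
    have h1 : g i c = (Pi.single c' (1 : F) : Fin n → F) i := by rw [← hc]; simp
    have h2 : g j d = (Pi.single d' (1 : F) : Fin n → F) j := by rw [← hd]; simp
    rw [mul_apply, Finset.sum_eq_single d]
    · rw [mul_single_apply_same, transpose_apply, h1, h2]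
      simp only [Pi.single_apply, single_apply]
      by_cases hi : i = c' <;> by_cases hj : j = d' <;> simp [hi, hj, Ne.symm]
    · intro k _ hk
      rw [mul_single_apply_of_ne _ _ _ _ _ hk, zero_mul]
    · simp
  simp only [E, mul_sub, sub_mul]
  rw [h a b a' b' ha hb, h b a b' a' hb ha]

theorem uT_model {a b : Fin (m + 4)} (hab : a ≠ b) :
    uT (lev (F := F) (m := m)) (w0 F m) (pairEl hab) = up (E a b 1) ∧
      lT (lev (F := F) (m := m)) (w0 F m) (pairEl hab) = lo (E a b 1) := by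
  obtain ⟨g1, g0, gi⟩ := pairEl_spec (F := F) hab
  refine ⟨?_, ?_⟩
  · rw [uT, w0_conj10, odata.U_conj _ _ (skew_E _ _ _), skew_single_conj g1 g0]
  · rw [lT, w0_conj01, E_swap 1 0 (-1 : F), neg_neg, odata.L_conj _ _ (skew_E _ _ _), gi,
      skew_single_conj g1 g0]

theorem wT_model {a b : Fin (m + 4)} (hab : a ≠ b) :
    wT (lev (F := F) (m := m)) (w0 F m) (pairEl hab) = W up lo a b 1 := by
  rw [wT, (uT_model hab).1, (uT_model hab).2, W, inv_one]

theorem wWord_model : wWord (lev (F := F) (m := m)) (w0 F m) = w0 F m := by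
  rw [wWord, wT_model, w0]

theorem zTerm_model : zTerm (lev (F := F) (m := m)) (w0 F m) = 1 := by
  have hab : penult (m + 2) ≠ ult (m + 2) := penult_ne_ult (m + 2)
  rw [zTerm, wT_model]
  refine mat_inj ?_
  have hd : iota (m + 4) (negTwo F (m + 2)) = negTwo F (m + 2) := by
    have h1 : negTwo F (m + 2) * negTwo F (m + 2) = 1 := Subtype.ext (by
      show (negTwo F (m + 2)).1 * (negTwo F (m + 2)).1 = 1
      rw [negTwo_val, diagonal_mul_diagonal, ← diagonal_one]
      congr 1; funext i; split_ifs <;> simp)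
    show (negTwo F (m + 2))⁻¹.transpose = _
    rw [inv_eq_of_mul_eq_one_right h1]
    exact Subtype.ext (by show (negTwo F (m + 2)).1ᵀ = _; rw [negTwo_val, diagonal_transpose])
  rw [map_mul, map_mul, mat_lev, mat_Wel hab one_ne_zero, map_one, hd, negTwo_val, inv_one]
  set X := E (penult (m + 2)) (ult (m + 2)) (1 : F) with hX
  have h3 : X * X * X = -X := E_cube hab
  have hXX : X * X = Matrix.diagonal fun i => if m + 2 ≤ i.1 then (-1 : F) else 0 := by
    rw [hX, E, sub_mul, mul_sub, mul_sub]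
    simp only [single_mul_single_of_ne _ _ _ _ hab.symm, single_mul_single_of_ne _ _ _ _ hab,
      single_mul_single_same, mul_one]
    ext i j
    have hv : ∀ i : Fin (m + 4), m + 2 ≤ i.1 ↔ penult (m + 2) = i ∨ ult (m + 2) = i := fun i => by
      rw [Fin.ext_iff, Fin.ext_iff, penult_val, ult_val]
      omega
    by_cases hij : i = j
    · subst hij
      simp only [Matrix.sub_apply, Matrix.zero_apply, single_apply, diagonal_apply_eq, hv, and_self]
      by_cases e1 : penult (m + 2) = i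
      · have e2 : ult (m + 2) ≠ i := fun e => hab (e1.trans e.symm)
        simp [e1, e2]
      · by_cases e2 : ult (m + 2) = i <;> simp [e1, e2]
    · rw [diagonal_apply_ne _ hij]
      simp only [Matrix.sub_apply, Matrix.zero_apply, single_apply]
      rw [if_neg (fun e => hij (e.1.symm.trans e.2)), if_neg (fun e => hij (e.1.symm.trans e.2))]
      simp
  have hz : (1 + X * X) * X + X * (1 + X * X) = 0 := by
    simp only [Matrix.add_mul, Matrix.mul_add, Matrix.one_mul, Matrix.mul_one, ← Matrix.mul_assoc, h3]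
    abel
  have hz' : X * (1 + X * X) + (1 + X * X) * X = 0 := (add_comm _ _).trans hz
  have hd' : (1 + X * X) * (1 + X * X) + X * X =
      Matrix.diagonal fun i => if m + 2 ≤ i.1 then (-1 : F) else 1 := by
    rw [hXX, ← diagonal_one, diagonal_add, diagonal_mul_diagonal, diagonal_add]
    congr 1; funext i; split_ifs <;> ring
  rw [fromBlocks_multiply (1 + X * X), hz, hz', hd', add_comm (X * X), hd', fromBlocks_multiply,
    ← fromBlocks_one]
  simp only [Matrix.mul_zero, Matrix.zero_mul, add_zero, zero_add, diagonal_mul_diagonal,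
    ← diagonal_one]
  congr 2 <;> (funext i; split_ifs <;> ring)

theorem lev_mem_Omega (g : SpecialLinearGroup (Fin (m + 4)) F) :
    lev g ∈ Cfsg.Omega F ⇑(qPlus (m + 4) F) := by
  have htop : (Cfsg.Omega F ⇑(qPlus (m + 4) F)).comap lev = ⊤ :=
    CfsgLib.Classical.SL_le_of_transvections _ fun i j hij c => by
      rw [← Tr_eq hij c, Subgroup.mem_comap]
      obtain ⟨k, hki, hkj⟩ : ∃ k : Fin (m + 4), k ≠ i ∧ k ≠ j := by
        by_contra hk
        push Not at hk
        have hsub : (Finset.univ : Finset (Fin (m + 4))) ⊆ {i, j} := fun k _ => by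
          by_cases e : k = i
          · simp [e]
          · simp [hk k e]
        have h' := (Finset.card_le_card hsub).trans Finset.card_le_two
        rw [Finset.card_univ, Fintype.card_fin] at h'
        omega
      have e : Tr i j c = ⁅Tr i k c, Tr k j (1 : F)⁆ := by
        rw [commutatorElement_def, Tr_comm1 hki.symm hkj hij, mul_one, mul_inv_cancel_right]
      rw [e, map_commutatorElement]
      exact Subgroup.commutator_mem_commutator (Subgroup.mem_top _) (Subgroup.mem_top _)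
  exact (htop ▸ Subgroup.mem_top g : g ∈ (Cfsg.Omega F ⇑(qPlus (m + 4) F)).comap lev)

theorem root_mem_Omega {a b : Fin (m + 4)} (hab : a ≠ b) (t : F) :
    up (E a b t) ∈ Cfsg.Omega F ⇑(qPlus (m + 4) F) ∧
      lo (E a b t) ∈ Cfsg.Omega F ⇑(qPlus (m + 4) F) := by
  obtain ⟨c, hca, hcb⟩ : ∃ c : Fin (m + 4), c ≠ a ∧ c ≠ b := by
    by_contra hk
    push Not at hk
    have hsub : (Finset.univ : Finset (Fin (m + 4))) ⊆ {a, b} := fun k _ => by
      by_cases e : k = a
      · simp [e]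
      · simp [hk k e]
    have h' := (Finset.card_le_card hsub).trans Finset.card_le_two
    rw [Finset.card_univ, Fintype.card_fin] at h'
    omega
  have key : ∀ {Φ : SpecialLinearGroup (Fin (m + 4)) F →* Iso F m}
      {U L : Matrix (Fin (m + 4)) (Fin (m + 4)) F → Iso F m}, OData Φ U L →
      U (E a b t) ∈ Cfsg.Omega F ⇑(qPlus (m + 4) F) := by
    intro Φ U L D
    have e : U (E a b t) = ⁅Φ (Tr a c 1), U (E c b t)⁆ := by
      rw [commutatorElement_def, D.U_conj _ _ (skew_E _ _ _), trE_fst hca.symm hcb,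
        D.U_add _ _ (skew_E _ _ _) (skew_E _ _ _), one_mul,
        (D.U_comm (skew_E c b t) (skew_E a b t)).eq, mul_inv_cancel_right]
    rw [e]
    exact Subgroup.commutator_mem_commutator (Subgroup.mem_top _) (Subgroup.mem_top _)
  exact ⟨key odata, key odata.swap⟩

theorem w0_mem_Omega : w0 F m ∈ Cfsg.Omega F ⇑(qPlus (m + 4) F) := by
  have h : (0 : Fin (m + 4)) ≠ i3 := i3_ne zero_lt
  exact mul_mem (mul_mem (mul_mem (root_mem_Omega h _).1 (root_mem_Omega h _).2) (root_mem_Omega h _).1)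
    (lev_mem_Omega _)

end CfsgLib.Presentations.OmegaPlus
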