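/-
The local rules and the two global relations define the orthogonal group.
-/
import Cfsg.Agent.Lib.Presentations.OmegaPlus.Terms

set_option autoImplicit false
set_option linter.unusedSectionVars false

namespace CfsgLib.Presentations.OmegaPlus

open Matrix CfsgLib.Chev.CT.SB CfsgLib.Chev.CT.SB.Orth CfsgLib.Classical CfsgLib.Classical22
open CfsgLib.Chev.Ortho CfsgLib.Classical.Spin

universe u v

variable {F : Type u} [Field F] [Finite F] {m : ℕ}

/-- The orthogonal group of plus type. -/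
abbrev Om (F : Type u) [Field F] (m : ℕ) := Cfsg.Omega F ⇑(qPlus (m + 4) F)

/-- The Levi subgroup inside the derived group. -/
noncomputable def levO : SpecialLinearGroup (Fin (m + 4)) F →* Om F m :=
  lev.codRestrict _ lev_mem_Omega

/-- The carrying element inside the derived group. -/
noncomputable def wO (F : Type u) [Field F] (m : ℕ) : Om F m := ⟨w0 F m, w0_mem_Omega⟩

variable {Γ : Type v} [Group Γ]

theorem force (α : SpecialLinearGroup (Fin (m + 4)) F →* Γ) (w : Γ) (R : Rules α w)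
    (hz : (2 : F) ≠ 0 → zTerm α w = 1) (hw : wWord α w = w) :
    ∃ Ψ : Om F m →* Γ, Ψ.comp levO = α ∧ Ψ (wO F m) = w := by
  classical
  let α2 : SpecialLinearGroup (Fin (m + 4)) F →* Γ × Iso F m := α.prod lev
  let w2 : Γ × Iso F m := (w, w0 F m)
  have pc : ∀ {x y : Γ × Iso F m}, Commute x.1 y.1 → Commute x.2 y.2 → Commute x y :=
    fun h1 h2 => Prod.ext h1 h2
  have hR : Rules α2 w2 :=
    ⟨fun t => ⟨pc (R.fix12 t).1 (rules_model.fix12 t).1, pc (R.fix12 t).2 (rules_model.fix12 t).2⟩,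
      fun i j hij hap t u => ⟨pc (R.far i j hij hap t u).1 (rules_model.far i j hij hap t u).1,
        pc (R.far i j hij hap t u).2 (rules_model.far i j hij hap t u).2⟩⟩
  obtain ⟨P, hP, hP10, hP01⟩ := exists_pairing hR
  have D := hP.odata
  set U := uOf hP
  set L := uOf hP.dual
  have eU : ∀ {a b : Fin (m + 4)} (hab : a ≠ b) (t : F), U (E a b t) =
      α2 (pairEl hab) * (w2 * α2 (Tr 1 0 t) * w2⁻¹) * (α2 (pairEl hab))⁻¹ := fun {a b} hab t => by
    obtain ⟨g1, g0, -⟩ := pairEl_spec (F := F) hab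
    show uOf hP _ = _
    rw [hP.uOf_E hab, hP.V_spec g1 g0, hP10]
  have eL : ∀ {a b : Fin (m + 4)} (hab : a ≠ b) (t : F), L (E a b t) =
      α2 (pairEl hab) * (w2 * α2 (Tr 0 1 (-t)) * w2⁻¹) * (α2 (pairEl hab))⁻¹ := fun {a b} hab t => by
    obtain ⟨g1, g0, gi⟩ := pairEl_spec (F := F) hab
    show uOf hP.dual _ = _
    rw [hP.dual.uOf_E hab, hP.dual.V_spec g1 g0]
    simp only [MonoidHom.comp_apply, gi, iota_Tr one_ne_zero4]
    rw [hP01]
  have eW : ∀ {a b : Fin (m + 4)} (hab : a ≠ b), W U L a b 1 =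
      (wT α w (pairEl hab), W up lo a b 1) := fun {a b} hab => by
    rw [← wT_model hab]
    simp only [W, inv_one, eU hab, eL hab, wT, uT, lT]
    rfl
  have sU : ∀ M, Skew M → (U M).2 = up M := fun M hM => by
    refine Skew.induction (P := fun M => (U M).2 = up M) ?_ ?_ hM fun a b hab _ t => ?_
    · rw [D.U_zero, odata.U_zero]; rfl
    · intro A B hA hB iA iB
      rw [D.U_add A B hA hB, Prod.snd_mul, iA, iB, odata.U_add A B hA hB]
    · obtain ⟨g1, g0, -⟩ := pairEl_spec (F := F) hab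
      rw [eU hab]
      show lev _ * (w0 F m * lev _ * (w0 F m)⁻¹) * (lev _)⁻¹ = _
      rw [w0_conj10, odata.U_conj _ _ (skew_E _ _ _), skew_single_conj g1 g0]
  have sL : ∀ M, Skew M → (L M).2 = lo M := fun M hM => by
    refine Skew.induction (P := fun M => (L M).2 = lo M) ?_ ?_ hM fun a b hab _ t => ?_
    · rw [D.L_zero, odata.L_zero]; rfl
    · intro A B hA hB iA iB
      rw [D.L_add A B hA hB, Prod.snd_mul, iA, iB, odata.L_add A B hA hB]
    · obtain ⟨g1, g0, gi⟩ := pairEl_spec (F := F) hab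
      rw [eL hab]
      show lev _ * (w0 F m * lev _ * (w0 F m)⁻¹) * (lev _)⁻¹ = _
      rw [w0_conj01, E_swap 1 0 (-t), neg_neg, odata.L_conj _ _ (skew_E _ _ _), gi,
        skew_single_conj g1 g0]
  let S : Subgroup (Γ × Iso F m) :=
    Subgroup.closure (Set.range α2 ∪ U '' {M | Skew M} ∪ L '' {M | Skew M})
  let Φc : SpecialLinearGroup (Fin (m + 4)) F →* S :=
    α2.codRestrict S fun g => Subgroup.subset_closure (Or.inl (Or.inl ⟨g, rfl⟩))
  let Uc : Matrix (Fin (m + 4)) (Fin (m + 4)) F → S := fun M => if hM : Skew M then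
    ⟨U M, Subgroup.subset_closure (Or.inl (Or.inr ⟨M, hM, rfl⟩))⟩ else 1
  let Lc : Matrix (Fin (m + 4)) (Fin (m + 4)) F → S := fun M => if hM : Skew M then
    ⟨L M, Subgroup.subset_closure (Or.inr ⟨M, hM, rfl⟩)⟩ else 1
  have cU : ∀ M, Skew M → (Uc M : Γ × Iso F m) = U M := fun M hM => by simp [Uc, dif_pos hM]
  have cL : ∀ M, Skew M → (Lc M : Γ × Iso F m) = L M := fun M hM => by simp [Lc, dif_pos hM]
  have cΦ : ∀ g, (Φc g : Γ × Iso F m) = α2 g := fun _ => rfl
  have cE : ∀ (a b : Fin (m + 4)) (t : F), (Uc (E a b t) : Γ × Iso F m) = U (E a b t) ∧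
      (Lc (E a b t) : Γ × Iso F m) = L (E a b t) := fun a b t =>
    ⟨cU _ (skew_E _ _ _), cL _ (skew_E _ _ _)⟩
  have cW : ∀ (a b : Fin (m + 4)) (t : F), ((W Uc Lc a b t : S) : Γ × Iso F m) = W U L a b t :=
    fun a b t => by simp only [W, Subgroup.coe_mul, (cE _ _ _).1, (cE _ _ _).2]
  have DS : OData Φc Uc Lc :=
    { U_add := fun M N hM hN => Subtype.ext (by
        rw [Subgroup.coe_mul, cU _ hM, cU _ hN, cU _ (hM.add hN)]; exact D.U_add M N hM hN)
      L_add := fun M N hM hN => Subtype.ext (by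
        rw [Subgroup.coe_mul, cL _ hM, cL _ hN, cL _ (hM.add hN)]; exact D.L_add M N hM hN)
      U_conj := fun g M hM => Subtype.ext (by
        rw [Subgroup.coe_mul, Subgroup.coe_mul, Subgroup.coe_inv, cΦ, cU _ hM, cU _ (hM.conj _)]
        exact D.U_conj g M hM)
      L_conj := fun g M hM => Subtype.ext (by
        rw [Subgroup.coe_mul, Subgroup.coe_mul, Subgroup.coe_inv, cΦ, cL _ hM, cL _ (hM.conj _)]
        exact D.L_conj g M hM)
      ul1 := fun a b c hab hbc hac t u => Subtype.ext (by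
        simp only [Subgroup.coe_mul, Subgroup.coe_inv, cΦ, (cE _ _ _).1, (cE _ _ _).2]
        exact D.ul1 a b c hab hbc hac t u)
      disj := fun a b c d hab hcd hac had hbc hbd t u => Subtype.ext (by
        simp only [Subgroup.coe_mul, (cE _ _ _).1, (cE _ _ _).2]
        exact D.disj a b c d hab hcd hac had hbc hbd t u)
      w1 := fun a b hab t ht u => Subtype.ext (by
        simp only [Subgroup.coe_mul, Subgroup.coe_inv, cW, (cE _ _ _).1, (cE _ _ _).2]
        exact D.w1 a b hab t ht u)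
      w2 := fun a b hab t ht u => Subtype.ext (by
        simp only [Subgroup.coe_mul, Subgroup.coe_inv, cW, (cE _ _ _).1, (cE _ _ _).2]
        exact D.w2 a b hab t ht u) }
  let π₁ : S →* Γ := (MonoidHom.fst Γ (Iso F m)).comp S.subtype
  let π₂ : S →* Iso F m := (MonoidHom.snd Γ (Iso F m)).comp S.subtype
  have RS : ORep Φc Uc Lc (mat.comp π₂) := by
    refine ⟨?_, fun g => mat_lev g, fun M hM => ?_, fun M hM => ?_⟩
    · rw [eq_top_iff]
      rintro ⟨x, hx⟩ -
      induction hx using Subgroup.closure_induction with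
      | mem y hy =>
        rcases hy with (⟨g, rfl⟩ | ⟨M, hM, rfl⟩) | ⟨M, hM, rfl⟩
        · exact Subgroup.subset_closure (Or.inl (Or.inl ⟨g, rfl⟩))
        · exact Subgroup.subset_closure (Or.inl (Or.inr ⟨M, hM, Subtype.ext (cU M hM)⟩))
        · exact Subgroup.subset_closure (Or.inr ⟨M, hM, Subtype.ext (cL M hM)⟩)
      | one => exact one_mem _
      | mul a b _ _ ha hb => exact mul_mem ha hb
      | inv a _ ha => exact inv_mem ha
    · show mat (Uc M : Γ × Iso F m).2 = _
      rw [cU M hM, sU M hM, mat_up hM]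
    · show mat (Lc M : Γ × Iso F m).2 = _
      rw [cL M hM, sL M hM, mat_lo hM]
  have hker : ∀ x : S, π₂ x = 1 → π₁ x = 1 := fun x hx => by
    rcases ker_small (m + 2) Φc Uc Lc (mat.comp π₂) DS RS x (by
      show mat (π₂ x) = 1; rw [hx, map_one]) with rfl | rfl
    · exact map_one _
    · by_cases h2 : (2 : F) = 0
      · have e1 : W Uc Lc (penult (m + 2)) (ult (m + 2)) 1 * W Uc Lc (penult (m + 2)) (ult (m + 2)) 1 = 1 := by
          have h := DS.W_inv (penult (m + 2)) (ult (m + 2)) (1 : F)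
          rw [show (-1 : F) = 1 by linear_combination -h2, inv_eq_iff_mul_eq_one] at h
          exact h
        have e2 : negTwo F (m + 2) = 1 := Subtype.ext (by
          rw [negTwo_val, show (-1 : F) = 1 by linear_combination -h2]
          show _ = (1 : Matrix (Fin (m + 4)) (Fin (m + 4)) F)
          simp)
        rw [spinZ, e1, e2, map_one, mul_one, map_one]
      · show ((spinZ Φc Uc Lc : S) : Γ × Iso F m).1 = 1
        rw [spinZ, Subgroup.coe_mul, Subgroup.coe_mul, cW, eW (penult_ne_ult (m + 2))]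
        exact hz h2
  let R' : Subgroup (Iso F m) := π₂.range
  let f : R' →* Γ := π₂.rangeRestrict.liftOfSurjective π₂.rangeRestrict_surjective
    ⟨π₁, fun x hx => hker x (congrArg Subtype.val hx)⟩
  have hle : Om F m ≤ R' := by
    refine Omega_le_gens.trans ((Subgroup.closure_le _).2 ?_)
    rintro _ ((⟨g, rfl⟩ | ⟨M, hM, rfl⟩) | ⟨M, hM, rfl⟩)
    · exact ⟨Φc g, rfl⟩
    · exact ⟨Uc M, by show (Uc M : Γ × Iso F m).2 = _; rw [cU M hM, sU M hM]⟩
    · exact ⟨Lc M, by show (Lc M : Γ × Iso F m).2 = _; rw [cL M hM, sL M hM]⟩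
  have key : ∀ (x : S) (y : Om F m), π₂ x = (y : Iso F m) →
      f (Subgroup.inclusion hle y) = π₁ x := fun x y e => by
    rw [show Subgroup.inclusion hle y = π₂.rangeRestrict x from Subtype.ext e.symm]
    exact MonoidHom.liftOfRightInverse_comp_apply _ _ _ _ x
  refine ⟨f.comp (Subgroup.inclusion hle), MonoidHom.ext fun g => ?_, ?_⟩
  · exact key (Φc g) (levO g) rfl
  · have h03 : (0 : Fin (m + 4)) ≠ i3 := i3_ne zero_lt
    refine (key (W Uc Lc 0 i3 1 * Φc (Wy 0 i3 (-1))) (wO F m) ?_).trans ?_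
    · show ((W Uc Lc 0 i3 1 * Φc (Wy 0 i3 (-1)) : S) : Γ × Iso F m).2 = w0 F m
      rw [Subgroup.coe_mul, cW, eW h03]
      rfl
    · show ((W Uc Lc 0 i3 1 * Φc (Wy 0 i3 (-1)) : S) : Γ × Iso F m).1 = w
      rw [Subgroup.coe_mul, cW, eW h03]
      exact hw

theorem generate : (levO (F := F) (m := m)).range ⊔ Subgroup.zpowers (wO F m) = ⊤ := by
  classical
  set K := (levO (F := F) (m := m)).range ⊔ Subgroup.zpowers (wO F m) with hK
  let K' : Subgroup (Iso F m) := K.map (Om F m).subtype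
  have hlev : ∀ g, lev g ∈ K' := fun g => ⟨levO g, Subgroup.mem_sup_left ⟨g, rfl⟩, rfl⟩
  have hw0 : w0 F m ∈ K' := ⟨wO F m, Subgroup.mem_sup_right (Subgroup.mem_zpowers _), rfl⟩
  have hE : ∀ {a b : Fin (m + 4)} (hab : a ≠ b) (t : F),
      up (E a b t) ∈ K' ∧ lo (E a b t) ∈ K' := fun {a b} hab t => by
    obtain ⟨g1, g0, gi⟩ := pairEl_spec (F := F) hab
    refine ⟨?_, ?_⟩
    · rw [← skew_single_conj g1 g0 t, ← odata.U_conj _ _ (skew_E _ _ _), ← w0_conj10]
      exact mul_mem (mul_mem (hlev _) (mul_mem (mul_mem hw0 (hlev _)) (inv_mem hw0))) (inv_mem (hlev _))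
    · rw [← skew_single_conj g1 g0 t, ← gi, E_swap 0 1, ← odata.L_conj _ _ (skew_E _ _ _), ← w0_conj01]
      exact mul_mem (mul_mem (hlev _) (mul_mem (mul_mem hw0 (hlev _)) (inv_mem hw0))) (inv_mem (hlev _))
  have hle : gens F m ≤ K' := by
    refine (Subgroup.closure_le _).2 ?_
    rintro _ ((⟨g, rfl⟩ | ⟨M, hM, rfl⟩) | ⟨M, hM, rfl⟩)
    · exact hlev g
    · exact Skew.induction (P := fun M => up M ∈ K') (by rw [odata.U_zero]; exact one_mem _)
        (fun A B hA hB iA iB => by rw [odata.U_add A B hA hB]; exact mul_mem iA iB) hM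
        fun a b hab _ t => (hE hab t).1
    · exact Skew.induction (P := fun M => lo M ∈ K') (by rw [odata.L_zero]; exact one_mem _)
        (fun A B hA hB iA iB => by rw [odata.L_add A B hA hB]; exact mul_mem iA iB) hM
        fun a b hab _ t => (hE hab t).2
  rw [eq_top_iff]
  intro x _
  obtain ⟨y, hy, e⟩ := hle (Omega_le_gens x.2)
  rwa [← Subtype.ext e]

end CfsgLib.Presentations.OmegaPlus
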