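/-
The local rules follow from few relations.
-/
import Cfsg.Agent.Lib.Presentations.OmegaPlus.Few

set_option autoImplicit false
set_option linter.unusedSectionVars false

namespace CfsgLib.Presentations.OmegaPlus

open Matrix CfsgLib.Chev.CT.SB CfsgLib.Chev.CT.SB.Orth
open Cfsg.Agent.S2426 (root root_val)

universe u v

variable {F : Type u} [Field F] [Fintype F] {m : ℕ} {Γ : Type v} [Group Γ]

theorem diag_conj_Tr {N : ℕ} {h : SpecialLinearGroup (Fin N) F} {d : Fin N → F}
    (hd : h.1 = Matrix.diagonal d) (h0 : ∀ i, d i ≠ 0) {i j : Fin N} (hij : i ≠ j) (u : F) :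
    h * Tr i j u * h⁻¹ = Tr i j (d i * u * (d j)⁻¹) := by
  rw [mul_inv_eq_iff_eq_mul]
  refine Subtype.ext ?_
  show h.1 * (Tr i j u).1 = (Tr i j (d i * u * (d j)⁻¹)).1 * h.1
  rw [Tr_val hij, Tr_val hij, hd]
  ext r q
  rw [Matrix.diagonal_mul, Matrix.mul_diagonal]
  simp only [Matrix.transvection, Matrix.add_apply, Matrix.one_apply, Matrix.single_apply]
  by_cases hrq : r = q
  · subst hrq
    have : ¬(i = r ∧ j = r) := fun h' => hij (h'.1.trans h'.2.symm)
    simp [this, mul_comm]
  · by_cases hi : i = r ∧ j = q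
    · obtain ⟨rfl, rfl⟩ := hi
      simp [hrq, h0]
    · simp [hrq, hi]

theorem Wy_fix {N : ℕ} {i j : Fin N} (hij : i ≠ j) (s : F) {k : Fin N} (hi : k ≠ i) (hj : k ≠ j)
    (t : F) : (Wy i j s).1 *ᵥ Pi.single k t = Pi.single k t := by
  show ((Tr i j s).1 * (Tr j i (-s⁻¹)).1 * (Tr i j s).1) *ᵥ _ = _
  rw [← mulVec_mulVec, ← mulVec_mulVec, Tr_mulVec hij, Tr_mulVec hij.symm, Tr_mulVec hij]
  ext a
  simp [Pi.single_apply, hi, hj, hi.symm, hj.symm]

/-- The torus element commuting with the carrying element. -/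
def torus12 (s : F) : SpecialLinearGroup (Fin (m + 4)) F := Wy 1 2 s * Wy 1 2 (-1)

theorem torus12_diag {s : F} (hs : s ≠ 0) : (torus12 (m := m) s).1 = Matrix.diagonal
    (fun i : Fin (m + 4) => if i = 1 then s else if i = 2 then s⁻¹ else 1) := by
  have h12 : (1 : Fin (m + 4)) ≠ 2 := Fin.ne_of_val_ne (by rw [val_two]; simp)
  have hn : (-1 : F) ≠ 0 := neg_ne_zero.2 one_ne_zero
  refine Matrix.ext_of_mulVec_single fun k => ?_
  show ((Wy 1 2 s).1 * (Wy 1 2 (-1 : F)).1) *ᵥ _ = _
  rw [← mulVec_mulVec, Matrix.diagonal_mulVec_single, mul_one]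
  by_cases h1 : k = 1
  · subst h1
    rw [Wy_fst h12 hn, if_pos rfl, inv_neg, inv_one, neg_neg, Wy_snd h12 hs]
  by_cases h2 : k = 2
  · subst h2
    have e : Pi.single (1 : Fin (m + 4)) (-1 : F) = (-1 : F) • Pi.single (1 : Fin (m + 4)) (1 : F) := by
      ext x; simp [Pi.single_apply]
    rw [Wy_snd h12 hn, e, mulVec_smul, Wy_fst h12 hs, if_neg h12.symm, if_pos rfl]
    ext x; simp [Pi.single_apply]
  rw [Wy_fix h12 _ h1 h2, Wy_fix h12 _ h1 h2, if_neg h1, if_neg h2]

variable (α : SpecialLinearGroup (Fin (m + 4)) F →* Γ) (w : Γ)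

/-- The elements carried to the centralizer of both sides. -/
def good : Subgroup (SpecialLinearGroup (Fin (m + 4)) F) :=
  (Subgroup.centralizer (α '' apartSet F m)).comap ((MulAut.conj w).toMonoidHom.comp α)

variable {α w}

theorem mem_good {y : SpecialLinearGroup (Fin (m + 4)) F} :
    y ∈ good α w ↔ ∀ x ∈ apartSet F m, Commute (w * α y * w⁻¹) (α x) := by
  rw [good, Subgroup.mem_comap, Subgroup.mem_centralizer_iff]
  constructor
  · exact fun h x hx => (h _ ⟨x, hx, rfl⟩).symm
  · rintro h _ ⟨x, hx, rfl⟩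
    exact (h x hx).eq.symm

theorem fix12_of_pair {a b : SpecialLinearGroup (Fin 2) F}
    (hab : Subgroup.closure ({a, b} : Set (SpecialLinearGroup (Fin 2) F)) = ⊤)
    (h1 : Commute w (α (midB a))) (h2 : Commute w (α (midB b))) (t : F) :
    Commute w (α (Tr 1 2 t)) ∧ Commute w (α (Tr 2 1 t)) := by
  have hle : Subgroup.closure ({a, b} : Set (SpecialLinearGroup (Fin 2) F)) ≤
      (Subgroup.centralizer ({w} : Set Γ)).comap (α.comp midB) := by
    rw [Subgroup.closure_le]
    rintro _ (rfl | rfl)
    exacts [Subgroup.mem_centralizer_singleton_iff.2 h1.eq.symm,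
      Subgroup.mem_centralizer_singleton_iff.2 h2.eq.symm]
  have h : ∀ x, Commute w (α (midB x)) := fun x =>
    (Subgroup.mem_centralizer_singleton_iff.1
      (hle (hab ▸ Subgroup.mem_top x))).symm
  exact ⟨midB_U (m := m) t ▸ h _, midB_L (m := m) t ▸ h _⟩

/-- A pencil of products of opposite root elements generates rank one. -/
theorem top_of_pencil (h2 : Fintype.card F ≠ 2) (S : Subgroup (SpecialLinearGroup (Fin 2) F))
    (h : ∀ t : F, t ≠ 0 → root (false, -t⁻¹) * root (true, t) ∈ S) : S = ⊤ := by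
  classical
  obtain ⟨t, ht0, ht1⟩ : ∃ t : F, t ≠ 0 ∧ t ≠ 1 := by
    by_contra hc
    push Not at hc
    have hsub : (Finset.univ : Finset F) ⊆ {0, 1} := fun x _ => by
      by_cases hx : x = 0 <;> simp [hx, hc]
    have h' := (Finset.card_le_card hsub).trans Finset.card_le_two
    rw [Finset.card_univ] at h'
    have := Fintype.one_lt_card (α := F)
    omega
  have key : ∀ s : F, s ≠ 0 → root (true, (s - 1) * ((t - 1) / t)) ∈ S := by
    intro s hs
    let x : F → SpecialLinearGroup (Fin 2) F := fun t => root (false, -t⁻¹) * root (true, t)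
    have e : (x t * (x 1)⁻¹)⁻¹ * (x (t * s) * (x s)⁻¹) = root (true, (s - 1) * ((t - 1) / t)) := by
      rw [inv_mul_eq_iff_eq_mul, mul_inv_eq_iff_eq_mul, mul_assoc, mul_assoc, ← inv_mul_eq_iff_eq_mul]
      have e1 : (x t)⁻¹ = root (true, -t) * root (false, t⁻¹) := by
        refine inv_eq_of_mul_eq_one_right (Subtype.ext ?_)
        show ((root (false, -t⁻¹)).1 * (root (true, t)).1) *
          ((root (true, -t)).1 * (root (false, t⁻¹)).1) = 1
        simp only [root_val]
        ext i j; fin_cases i <;> fin_cases j <;> simp [Matrix.mul_apply, Fin.sum_univ_two] <;> field_simp <;> ring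
      have e2 : (x 1)⁻¹ = root (true, -1) * root (false, 1) := by
        refine inv_eq_of_mul_eq_one_right (Subtype.ext ?_)
        show ((root (false, -(1 : F)⁻¹)).1 * (root (true, (1 : F))).1) *
          ((root (true, (-1 : F))).1 * (root (false, (1 : F))).1) = 1
        simp only [root_val]
        ext i j; fin_cases i <;> fin_cases j <;> simp [Matrix.mul_apply, Fin.sum_univ_two] <;> field_simp <;> ring
      rw [e1, e2]
      refine Subtype.ext ?_
      show (root (true, -t)).1 * (root (false, t⁻¹)).1 *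
          ((root (false, -(t * s)⁻¹)).1 * (root (true, t * s)).1) =
        (root (true, (-1 : F))).1 * (root (false, (1 : F))).1 *
          ((root (true, (s - 1) * ((t - 1) / t))).1 * ((root (false, -s⁻¹)).1 * (root (true, s)).1))
      simp only [root_val]
      ext i j; fin_cases i <;> fin_cases j <;> simp [Matrix.mul_apply, Fin.sum_univ_two] <;> field_simp <;> ring
    rw [← e]
    exact mul_mem (inv_mem (mul_mem (h t ht0) (inv_mem (h 1 one_ne_zero))))
      (mul_mem (h _ (mul_ne_zero ht0 hs)) (inv_mem (h s hs)))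
  have hk : (t - 1) / t ≠ 0 := div_ne_zero (sub_ne_zero.2 ht1) ht0
  have hadd : ∀ x y : F, root (true, x) * root (true, y) = root (true, x + y) := fun x y => by
    rw [root_true_eq, root_true_eq, root_true_eq, Tr_add (by decide)]
  have hU : ∀ c : F, root (true, c) ∈ S := fun c => by
    by_cases hc : c = -((t - 1) / t)
    · have e1 := key (c / ((t - 1) / t) + 1 - (t - 1)) (by
        rw [hc, neg_div, div_self hk]
        intro h0
        exact ht1 (by linear_combination -h0))
      have e2 := key t ht0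
      have := mul_mem e1 e2
      rw [hadd] at this
      convert this using 3
      field_simp
      ring
    · have := key (c / ((t - 1) / t) + 1) (fun h0 => hc (by
        rw [add_eq_zero_iff_eq_neg, div_eq_iff hk] at h0
        rw [h0]; ring))
      rwa [add_sub_cancel_right, div_mul_cancel₀ _ hk] at this
  refine eq_top_of_root S fun b c => ?_
  cases b
  · by_cases hc : c = 0
    · subst hc
      rw [root_false_eq, Tr_zero (by decide)]
      exact one_mem _
    · have := mul_mem (h (-c⁻¹) (neg_ne_zero.2 (inv_ne_zero hc))) (inv_mem (hU (-c⁻¹)))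
      rwa [mul_inv_cancel_right, inv_neg, inv_inv, neg_neg] at this
  · exact hU c

/-- The elements whose carried images must commute with both sides. -/
noncomputable def carried (F : Type u) [Field F] [Fintype F] (m : ℕ) :
    List (SpecialLinearGroup (Fin (m + 4)) F) :=
  if Fintype.card F = 2 then [Tr 1 0 1, Tr 0 1 1] else [Tr 1 0 (-1) * Tr 0 1 1]

theorem length_carried : (carried F m).length = if Fintype.card F = 2 then 2 else 1 := by
  rw [carried]; split_ifs <;> rfl

variable {l : List (SpecialLinearGroup (Fin (m + 4)) F)}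
  (hl : Subgroup.closure {x | x ∈ l} = Subgroup.closure (apartSet F m))

include hl

theorem rules_of_rels (hfix : ∀ t, Commute w (α (Tr 1 2 t)) ∧ Commute w (α (Tr 2 1 t)))
    (h : ∀ x ∈ carried F m, ∀ k ∈ l, Commute (w * α x * w⁻¹) (α k)) : Rules α w := by
  classical
  have hc : ∀ x ∈ carried F m, x ∈ good α w := fun x hx => by
    rw [mem_good]
    intro y hy
    have hle : Subgroup.closure {k | k ∈ l} ≤
        (Subgroup.centralizer ({w * α x * w⁻¹} : Set Γ)).comap α := by
      rw [Subgroup.closure_le]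
      exact fun k hk => Subgroup.mem_centralizer_singleton_iff.2 (h x hx k hk).eq.symm
    exact (Subgroup.mem_centralizer_singleton_iff.1
      (hle (hl ▸ Subgroup.subset_closure hy))).symm
  have hall : ∀ t, Tr 1 0 t ∈ good α w ∧ Tr 0 1 t ∈ good α w := by
    by_cases h2 : Fintype.card F = 2
    · have c1 : Tr 1 0 (1 : F) ∈ good α w := hc _ (by simp [carried, h2])
      have c2 : Tr 0 1 (1 : F) ∈ good α w := hc _ (by simp [carried, h2])
      intro t
      obtain rfl | rfl : t = 0 ∨ t = 1 := by
        by_contra hne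
        push Not at hne
        have hs : ({0, 1, t} : Finset F).card = 3 := by
          simp [Finset.card_insert_of_notMem, hne.1.symm, hne.2.symm]
        have := Finset.card_le_univ ({0, 1, t} : Finset F)
        omega
      · rw [Tr_zero one_ne_zero4, Tr_zero one_ne_zero4.symm]
        exact ⟨one_mem _, one_mem _⟩
      · exact ⟨c1, c2⟩
    · have c0 : Tr 1 0 (-1 : F) * Tr 0 1 1 ∈ good α w := hc _ (by simp [carried, h2])
      have hS : (good α w).comap sideA = ⊤ := by
        refine top_of_pencil h2 _ fun t ht => ?_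
        rw [Subgroup.mem_comap, map_mul, sideA_L, sideA_U]
        set g : SpecialLinearGroup (Fin (m + 4)) F := torus12 t⁻¹
        set d : Fin (m + 4) → F := fun i => if i = 1 then t⁻¹ else if i = 2 then t⁻¹⁻¹ else 1
        have hd : g.1 = Matrix.diagonal d := torus12_diag (inv_ne_zero ht)
        have h0 : ∀ i, d i ≠ 0 := fun i => by
          simp only [d]; split_ifs <;> simp [ht]
        have hwg : Commute w (α g) := by
          simp only [g, torus12, Wy, map_mul]
          exact (((hfix _).1.mul_right (hfix _).2).mul_right (hfix _).1).mul_right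
            (((hfix _).1.mul_right (hfix _).2).mul_right (hfix _).1)
        have e : Tr 1 0 (-t⁻¹) * Tr 0 1 t = g * (Tr 1 0 (-1 : F) * Tr 0 1 1) * g⁻¹ := by
          have h02 : (0 : Fin (m + 4)) ≠ 2 := Fin.ne_of_val_ne (by rw [val_two]; simp)
          rw [← conj_mul, diag_conj_Tr hd h0 one_ne_zero4, diag_conj_Tr hd h0 one_ne_zero4.symm]
          congr 2 <;> simp [d, one_ne_zero4.symm, h02]
        rw [e, mem_good]
        rintro _ ⟨i, j, hij, hap, u, rfl⟩
        have hx := mem_good.1 c0 _ ⟨i, j, hij, hap, d j * u * (d i)⁻¹, rfl⟩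
        have hu : Tr i j u = g * Tr i j (d j * u * (d i)⁻¹) * g⁻¹ := by
          rw [diag_conj_Tr hd h0 hij]
          congr 1
          have := h0 i; have := h0 j
          field_simp
        rw [hu]
        have hh := hx.map (MulAut.conj (α g)).toMonoidHom
        simp only [MulEquiv.coe_toMonoidHom, MulAut.conj_apply] at hh
        have e' : w * α (g * (Tr 1 0 (-1 : F) * Tr 0 1 1) * g⁻¹) * w⁻¹ =
            α g * (w * α (Tr 1 0 (-1 : F) * Tr 0 1 1) * w⁻¹) * (α g)⁻¹ := by
          rw [map_mul α (g * _), map_mul α g, map_inv]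
          calc w * (α g * α (Tr 1 0 (-1 : F) * Tr 0 1 1) * (α g)⁻¹) * w⁻¹
              = (w * α g) * α (Tr 1 0 (-1 : F) * Tr 0 1 1) * ((α g)⁻¹ * w⁻¹) := by group
            _ = (α g * w) * α (Tr 1 0 (-1 : F) * Tr 0 1 1) * (w⁻¹ * (α g)⁻¹) := by
              rw [hwg.eq, (hwg.inv_inv.eq)]
            _ = _ := by group
        rw [e', map_mul α (g * _), map_mul α g, map_inv]
        exact hh
      intro t
      exact ⟨sideA_L (m := m) t ▸ (hS ▸ Subgroup.mem_top (root (false, t)) : _ ∈ (good α w).comap sideA),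
        sideA_U (m := m) t ▸ (hS ▸ Subgroup.mem_top (root (true, t)) : _ ∈ (good α w).comap sideA)⟩
  exact ⟨hfix, fun i j hij hap t u => ⟨mem_good.1 (hall t).1 _ ⟨i, j, hij, hap, u, rfl⟩,
    mem_good.1 (hall t).2 _ ⟨i, j, hij, hap, u, rfl⟩⟩⟩

theorem rels_of_rules (R : Rules α w) :
    ∀ x ∈ carried F m, ∀ k ∈ l, Commute (w * α x * w⁻¹) (α k) := by
  intro x hx k hk
  have hxg : x ∈ good α w := by
    have h10 : ∀ t, Tr 1 0 t ∈ good α w ∧ Tr 0 1 t ∈ good α w := fun t => by
      constructor <;> rw [mem_good] <;> rintro _ ⟨i, j, hij, hap, u, rfl⟩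
      exacts [(R.far i j hij hap t u).1, (R.far i j hij hap t u).2]
    rw [carried] at hx
    split_ifs at hx <;> simp only [List.mem_cons, List.not_mem_nil, or_false] at hx
    · rcases hx with rfl | rfl
      exacts [(h10 1).1, (h10 1).2]
    · subst hx
      exact mul_mem (h10 _).1 (h10 _).2
  have hle : Subgroup.closure (apartSet F m) ≤
      (Subgroup.centralizer ({w * α x * w⁻¹} : Set Γ)).comap α := by
    rw [Subgroup.closure_le]
    exact fun y hy => Subgroup.mem_centralizer_singleton_iff.2 (mem_good.1 hxg y hy).eq.symm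
  exact (Subgroup.mem_centralizer_singleton_iff.1
    (hle (hl ▸ Subgroup.subset_closure hk))).symm

end CfsgLib.Presentations.OmegaPlus
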