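/-
Presentations of the orthogonal groups of plus type.
-/
import Cfsg.Agent.Lib.Presentations.OmegaPlus.Force
import Cfsg.Agent.Lib.Presentations.OmegaPlus.Rels
import Cfsg.Agent.Lib.Presentations.PresOn
import Cfsg.Agent.Lib.Presentations.SLTight.Main
import Cfsg.Agent.Lib.Classical.QuadPOmega

set_option autoImplicit false
set_option linter.unusedSectionVars false

namespace CfsgLib.Presentations.OmegaPlus

open Matrix CfsgLib.Chev.CT.SB CfsgLib.Chev.CT.SB.Orth CfsgLib.Classical
open scoped commutatorElement

universe u

variable {F : Type u} [Field F] [Fintype F] {m : ℕ}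

theorem rules_levO : Rules (levO (F := F) (m := m)) (wO F m) :=
  ⟨fun t => ⟨Subtype.ext (rules_model.fix12 t).1.eq, Subtype.ext (rules_model.fix12 t).2.eq⟩,
    fun i j hij hap t u => ⟨Subtype.ext (rules_model.far i j hij hap t u).1.eq,
      Subtype.ext (rules_model.far i j hij hap t u).2.eq⟩⟩

theorem zTerm_levO : zTerm (levO (F := F) (m := m)) (wO F m) = 1 :=
  Subtype.ext ((map_zTerm (Om F m).subtype).trans zTerm_model)

theorem wWord_levO : wWord (levO (F := F) (m := m)) (wO F m) = wO F m :=
  Subtype.ext ((map_wWord (Om F m).subtype).trans wWord_model)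

/-- The relations needed beside those of SL. -/
noncomputable def extra (F : Type u) [Field F] [Fintype F] (m : ℕ) : ℕ :=
  2 + 1 + (if Fintype.card F % 2 = 0 then 0 else 1) +
    (if Fintype.card F = 2 then 2 else 1) * sideCount F m

theorem omega_bound {κ : Type} {a : ℕ}
    (hA : BoundedOn (SpecialLinearGroup (Fin (m + 4)) F) κ a) :
    BoundedOn (Om F m) (κ ⊕ Unit) (a + extra F m) := by
  classical
  obtain ⟨a2, b2, hab⟩ := sl2_two_gens (F := F)
  obtain ⟨l, hlen, hl⟩ := exists_sideGens (F := F) (m := m)
  let A := SpecialLinearGroup (Fin (m + 4)) F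
  let G := FreeGroup (A ⊕ Multiplicative ℤ)
  let at' : A → G := fun x => FreeGroup.of (Sum.inl x)
  let W : G := FreeGroup.of (Sum.inr (Multiplicative.ofAdd 1))
  let E : List G := [⁅W, at' (midB a2)⁆, ⁅W, at' (midB b2)⁆, wWord at' W * W⁻¹] ++
    (if (2 : F) = 0 then [] else [zTerm at' W]) ++
    (carried F m).flatMap fun x => l.map fun k => ⁅W * at' x * W⁻¹, at' k⁆
  have h20 : (2 : F) = 0 ↔ Fintype.card F % 2 = 0 := by
    constructor
    · intro h
      haveI : Fact (ringChar F).Prime := ⟨CharP.char_is_prime F _⟩
      refine FiniteField.even_card_of_char_two ?_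
      by_contra hne
      exact Ring.two_ne_zero hne h
    · intro h
      by_contra hne
      exact absurd h (by have := odd_card_of_two_ne_zero hne; rw [Nat.odd_iff] at this; omega)
  have hlenE : E.length = extra F m := by
    simp only [E, extra, List.length_append, List.length_cons, List.length_nil, List.length_flatMap,
      List.length_map, hlen, List.map_const', List.sum_replicate, smul_eq_mul]
    have hc : @List.length A (carried F m) = if Fintype.card F = 2 then 2 else 1 := length_carried
    by_cases h : (2 : F) = 0
    · simp [h, h20.1 h, hc]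
    · simp [h, mt h20.2 h, hc]
  let g : Multiplicative ℤ →* Om F m := zpowersHom _ (wO F m)
  have hw : ∀ {Γ : Type u} [Group Γ] (w : Γ), zpowersHom Γ w (Multiplicative.ofAdd 1) = w :=
    fun w => by simp
  have hgen : (levO (F := F) (m := m)).range ⊔ g.range = ⊤ := by
    rw [← generate]
    congr 1
  rw [← hlenE]
  refine (BoundedOn.glue (levO (F := F) (m := m)) g hA boundedOn_int hgen E ?_ ?_).mono (by omega)
  · intro e he
    have l1 : (FreeGroup.lift (Sum.elim (levO (F := F) (m := m)) g)) ∘ at' = levO :=
      funext fun x => by simp [at']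
    have l2 : FreeGroup.lift (Sum.elim (levO (F := F) (m := m)) g) W = wO F m := by
      simp [W, g]
    simp only [E, List.mem_append, List.mem_cons, List.not_mem_nil, or_false, List.mem_flatMap,
      List.mem_map] at he
    have R := rules_levO (F := F) (m := m)
    have hfix : ∀ x, Commute (wO F m) (levO (midB x)) := by
      intro x
      have ht : (Subgroup.centralizer ({wO F m} : Set (Om F m))).comap (levO.comp midB) = ⊤ := by
        refine eq_top_of_root _ fun b c => Subgroup.mem_centralizer_singleton_iff.2 ?_
        cases b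
        · rw [MonoidHom.comp_apply, midB_L]; exact (R.fix12 c).2.eq.symm
        · rw [MonoidHom.comp_apply, midB_U]; exact (R.fix12 c).1.eq.symm
      exact (Subgroup.mem_centralizer_singleton_iff.1
        (ht ▸ Subgroup.mem_top x : x ∈ (Subgroup.centralizer _).comap _)).symm
    rcases he with ((rfl | rfl | rfl) | he) | ⟨x, hx, k, hk, rfl⟩
    · rw [map_commutatorElement, l2, commutatorElement_eq_one_iff_commute]
      rw [show FreeGroup.lift _ (at' (midB a2)) = _ from congrFun l1 _]; exact hfix a2
    · rw [map_commutatorElement, l2, commutatorElement_eq_one_iff_commute]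
      rw [show FreeGroup.lift _ (at' (midB b2)) = _ from congrFun l1 _]; exact hfix b2
    · rw [map_mul, map_inv, map_wWord, l1, l2, wWord_levO, mul_inv_cancel]
    · split_ifs at he with h
      · simp at he
      · rw [List.mem_singleton.1 he, map_zTerm, l1, l2, zTerm_levO]
    · rw [map_commutatorElement, map_mul, map_mul, map_inv, l2,
        show FreeGroup.lift _ (at' x) = _ from congrFun l1 x,
        show FreeGroup.lift _ (at' k) = _ from congrFun l1 k, commutatorElement_eq_one_iff_commute]
      exact rels_of_rules hl R x hx k hk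
  · intro Γ _ α β hE
    set w := β (Multiplicative.ofAdd 1) with hwdef
    have l1 : (FreeGroup.lift (Sum.elim α β)) ∘ at' = α := funext fun x => by simp [at']
    have l2 : FreeGroup.lift (Sum.elim α β) W = w := by simp [W, w]
    have hx : ∀ x, FreeGroup.lift (Sum.elim α β) (at' x) = α x := congrFun l1
    have e1 := hE ⁅W, at' (midB a2)⁆ (by simp [E])
    have e2 := hE ⁅W, at' (midB b2)⁆ (by simp [E])
    have e3 := hE (wWord at' W * W⁻¹) (by simp [E])
    rw [map_commutatorElement, l2, hx, commutatorElement_eq_one_iff_commute] at e1 e2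
    rw [map_mul, map_inv, map_wWord, l1, l2, mul_inv_eq_one] at e3
    have hfix := fix12_of_pair hab e1 e2
    have R : Rules α w := rules_of_rels hl hfix fun x hxm k hk => by
      have := hE ⁅W * at' x * W⁻¹, at' k⁆ (by
        simp only [E, List.mem_append, List.mem_flatMap, List.mem_map]
        exact Or.inr ⟨x, hxm, k, hk, rfl⟩)
      rwa [map_commutatorElement, map_mul, map_mul, map_inv, l2, hx, hx,
        commutatorElement_eq_one_iff_commute] at this
    obtain ⟨Ψ, h1, h2⟩ := force α w R (fun hne => by
      have := hE (zTerm at' W) (by simp [E, hne])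
      rwa [map_zTerm, l1, l2] at this) e3
    refine ⟨Ψ, h1, MonoidHom.ext_mint ?_⟩
    show Ψ (g (Multiplicative.ofAdd 1)) = w
    simpa [g] using h2

theorem exists_centre_gen : ∃ z : Om F m,
    (QuotientGroup.mk' (Subgroup.center (Om F m))).ker = Subgroup.normalClosure {z} := by
  classical
  rw [QuotientGroup.ker_mk']
  have hn : 6 ≤ Fintype.card (Fin (m + 4) ⊕ Fin (m + 4)) := by simp; omega
  have hc := fun (g : Om F m) (hg : g ∈ Subgroup.center (Om F m)) =>
    Omega_central_eq (qPlus (m + 4) F) (polarNondeg_qPlus _) hn hg
  by_cases hneg : negIso (qPlus (m + 4) F) ∈ Cfsg.Omega F ⇑(qPlus (m + 4) F)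
  · refine ⟨⟨_, hneg⟩, le_antisymm (fun g hg => ?_) (Subgroup.normalClosure_le_normal ?_)⟩
    · rcases hc g hg with h | h
      · rw [show g = 1 from Subtype.ext h]; exact one_mem _
      · rw [show g = ⟨_, hneg⟩ from Subtype.ext h]
        exact Subgroup.subset_normalClosure rfl
    · rintro _ rfl
      refine Subgroup.mem_center_iff.2 fun y => Subtype.ext (iso_ext fun x => ?_)
      change isoApply ((y : Iso F m) * negIso _) x = isoApply (negIso _ * (y : Iso F m)) x
      rw [isoApply_mul, isoApply_mul, negIso_apply, negIso_apply]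
      exact Matrix.mulVec_neg _ _
  · refine ⟨1, le_antisymm (fun g hg => ?_) (Subgroup.normalClosure_le_normal ?_)⟩
    · rcases hc g hg with h | h
      · rw [show g = 1 from Subtype.ext h]; exact one_mem _
      · exact absurd (h ▸ g.2) hneg
    · rintro _ rfl
      exact one_mem _

theorem pomega_bound {κ : Type} {a : ℕ} (h : BoundedOn (Om F m) κ a) :
    BoundedOn (Cfsg.POmega F ⇑(qPlus (m + 4) F)) κ (a + 1) := by
  obtain ⟨z, hz⟩ := exists_centre_gen (F := F) (m := m)
  exact h.quotient _ (QuotientGroup.mk'_surjective _) z hz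

theorem extra_le (h : Fintype.card F ≠ 2) : extra F m ≤ if m = 0 then 7 else 6 := by
  simp only [extra, sideCount, h, if_false, and_true, one_mul]
  split_ifs <;> omega

theorem extra_two (h : Fintype.card F = 2) : extra F m = 7 := by
  simp [extra, sideCount, h]

/-- Eight generators and few relations. -/
theorem omega_eight : BoundedOn (Om F m) (Fin 8) (if m ≤ 1 then 29 else 31) := by
  have six : ∀ {a : ℕ}, BoundedOn (SpecialLinearGroup (Fin (m + 4)) F) (Fin 6) a →
      a + extra F m + 1 ≤ 29 → m ≤ 1 → BoundedOn (Om F m) (Fin 8) (if m ≤ 1 then 29 else 31) :=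
    fun {a} h hb hm =>
      (((omega_bound h).pad 1).reindex (Fintype.equivFinOfCardEq (by simp))).mono (by
        rw [if_pos hm]; omega)
  have seven : ∀ {a : ℕ}, BoundedOn (SpecialLinearGroup (Fin (m + 4)) F) (Fin 7) a →
      a + extra F m ≤ 31 → ¬ m ≤ 1 → BoundedOn (Om F m) (Fin 8) (if m ≤ 1 then 29 else 31) :=
    fun {a} h hb hm =>
      ((omega_bound h).reindex (Fintype.equivFinOfCardEq (by simp))).mono (by
        rw [if_neg hm]; omega)
  by_cases h2 : Fintype.card F = 2
  · have he := extra_two (m := m) h2
    match m with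
    | 0 => exact six SLTight.sl_four (by omega) (by omega)
    | 1 => exact six (SLTight.sl_five_two h2) (by omega) (by omega)
    | k + 2 => exact seven (SLTight.sl_seven_two h2 _ (by omega)) (by omega) (by omega)
  · have he := extra_le (m := m) h2
    match m with
    | 0 => exact six SLTight.sl_four (by simp at he; omega) (by omega)
    | 1 => exact six SLTight.sl_five (by simp at he; omega) (by omega)
    | k + 2 => exact seven (SLTight.sl_seven _ (by omega)) (by simp at he; omega) (by omega)

end CfsgLib.Presentations.OmegaPlus
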